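import Cfsg.Agent.Lib.Oval.Geo2
import Cfsg.Agent.Lib.Block.IsoElt

/-! Elimination of Baer involutions, I: the dihedral group generated by the homologies of a Sylow subgroup. -/

set_option autoImplicit false
set_option linter.unusedSectionVars false
set_option linter.style.haveILetI false

namespace Cfsg.Lib.Oval

open Finset Cfsg.Lib.Invol Cfsg.Lib.Transfer Subgroup
open scoped Classical Pointwise

variable {G X : Type*} [Group G] [Finite G] [MulAction G X]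

theorem fixed_of_odd {K : Subgroup G} (hK : IsPGroup 2 K) (s : Finset X)
    (hS : ∀ k ∈ K, ∀ x ∈ s, k • x ∈ s) (ho : Odd #s) : ∃ x ∈ s, ∀ k ∈ K, k • x = x := by
  letI : MulAction K {x // x ∈ s} :=
    { smul := fun x y => ⟨(x : G) • y.1, hS x x.2 y y.2⟩
      one_smul := fun y => Subtype.ext (one_smul G y.1)
      mul_smul := fun x y z => Subtype.ext (mul_smul (x : G) y z.1) }
  haveI := fact_two
  obtain ⟨x, hx⟩ := hK.nonempty_fixed_point_of_prime_not_dvd_card {x // x ∈ s} (by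
    rw [Nat.card_eq_finsetCard s]; exact ho.not_two_dvd_nat)
  exact ⟨x, x.2, fun k hk => congrArg Subtype.val (hx ⟨k, hk⟩)⟩

theorem thompson (hG : ∀ K : Subgroup G, K.index ≠ 2) (S : Sylow 2 G) {M : Subgroup G}
    (h : ∀ s ∈ (S : Subgroup G), ∀ s' ∈ (S : Subgroup G), s ∉ M → s' ∉ M → s * s' ∈ M) {u : G}
    (hu : orderOf u = 2) : ∃ g, g * u * g⁻¹ ∈ M := by
  by_cases e : (S : Subgroup G) ≤ M
  · exact (exists_conj_two_mem_sylow S hu).imp fun g hg => e hg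
  obtain ⟨a, ha, h1⟩ := SetLike.not_le_iff_exists.1 e
  refine thompson_transfer' hG (odd_index_sylow S) (relIndex_eq_two_iff.2 ⟨a, ha, fun b hb => ?_⟩) hu
  by_cases h2 : b ∈ M
  exacts [Or.inr ⟨h2, fun e => h1 ((M.mul_mem_cancel_left h2).1 e)⟩, Or.inl ⟨h b hb a ha h2 h1, h2⟩]

theorem mem_of_transfer (hG : ∀ K : Subgroup G, K.index ≠ 2) (S : Sylow 2 G) {K : Subgroup G}
    (hK : ∀ s ∈ (S : Subgroup G), ∀ s' ∈ (S : Subgroup G), s * s' * s⁻¹ * s'⁻¹ ∈ K) {r : G}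
    (hr : r ∈ (S : Subgroup G)) (key : ∀ (k : ℕ) (g : G), k ∣ orderOf r → g * r ^ k * g⁻¹ ∈ (S : Subgroup G) →
      g * r ^ k * g⁻¹ * (r ^ k)⁻¹ ∈ K) : r ∈ K := by
  have h1 : _root_.commutator S ≤ K.subgroupOf S := commutator_le.2 fun a _ b _ => hK a a.2 b b.2
  haveI : (K.subgroupOf (S : Subgroup G)).Normal := Normal.of_commutator_le _ h1
  letI : CommGroup ((S : Subgroup G) ⧸ K.subgroupOf S) := { (inferInstance : Group _) with
    mul_comm := (Normal.quotient_commutative_iff_commutator_le.2 h1).is_comm.comm }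
  have hQ := S.isPGroup'.to_quotient (K.subgroupOf S)
  have e := transfer_eq_pow_of (QuotientGroup.mk' (K.subgroupOf (S : Subgroup G))) r
    (QuotientGroup.mk' _ ⟨r, hr⟩) fun k g h hk => by
      rw [← map_pow, QuotientGroup.mk'_apply, QuotientGroup.mk'_apply, QuotientGroup.eq_iff_div_mem]
      simpa [mem_subgroupOf, div_eq_mul_inv] using key k g⁻¹ hk (by simpa using h)
  by_contra h2
  obtain ⟨H, hH⟩ := exists_index_two_of_hom hQ _ (g := r) (e.trans_ne fun e' => h2 (by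
    haveI := fact_two
    obtain ⟨k, hk⟩ := (IsPGroup.iff_orderOf.1 hQ) (QuotientGroup.mk' _ ⟨r, hr⟩)
    have := Nat.Coprime.eq_one_of_dvd (hk ▸ (Nat.coprime_two_left.2 (odd_index_sylow S)).pow_left k)
      (orderOf_dvd_of_pow_eq_one e')
    exact (QuotientGroup.eq_one_iff (⟨r, hr⟩ : (S : Subgroup G))).1 (orderOf_eq_one_iff.1 this)))
  exact hG H hH

/-- the abstract data: homologies `H` acting on the oval `O` -/
structure BA (O : Finset X) (H : G → Prop) : Prop where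
  no2 : ∀ K : Subgroup G, K.index ≠ 2
  niso : ∀ x : G, orderOf x = 2 → ¬ IsIsolated x
  inv : ∀ (g : G), ∀ p ∈ O, g • p ∈ O
  two : ∀ {t}, H t → orderOf t = 2
  conj : ∀ {t}, H t → ∀ g, H (g * t * g⁻¹)
  h1 : ∀ {t s}, H t → H s → t ≠ s → Commute t s → H (t * s)
  h3 : ∀ {b c}, orderOf b = 2 → orderOf c = 2 → b ≠ c → Commute b c → H b ∨ H c ∨ H (b * c)
  par : ∀ t : G, t * t = 1 → #(fx O t) % 4 = 2
  fx2 : ∀ {t}, H t → #(fx O t) = 2
  det : ∀ {t s p q}, H t → H s → p ∈ O → q ∈ O → p ≠ q → t • p = p → t • q = q → s • p = p → s • q = q → t = s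

variable {O : Finset X} {H : G → Prop} {t s u v w c g h x b r : G} {p q y : X}

theorem BA.pP (B : BA O H) (hc : c * c = 1) (cm : Commute w c) (hw : orderOf (w * w) = 2)
    (e : ∀ y ∈ O, c • y = y → (w * w) • y ≠ y) : False := by
  have := four_dvd hw (fx O c) (fun p hp => mem_filter.2 ⟨B.inv _ _ (mem_filter.1 hp).1,
    fix_comm cm (mem_filter.1 hp).2⟩) fun p hp => e p (mem_filter.1 hp).1 (mem_filter.1 hp).2
  have := B.par c hc
  omega

theorem BA.eq_of_fix (B : BA O H) (ht : H t) (hs : H s) (e : ∀ y ∈ O, t • y = y → s • y = y) : t = s := by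
  obtain ⟨p, hp, q, hq, h⟩ := one_lt_card.1 (show 1 < #(fx O t) by rw [B.fx2 ht]; omega)
  simp only [mem_filter] at hp hq
  exact B.det ht hs hp.1 hq.1 h hp.2 hq.2 (e p hp.1 hp.2) (e q hq.1 hq.2)

theorem BA.conj' (B : BA O H) (g : G) (ht : H (g * t * g⁻¹)) : H t := by simpa [mul_assoc] using B.conj ht g⁻¹

theorem BA.three (B : BA O H) (ht : H t) (hp : p ∈ O) (hq : q ∈ O) (hy : y ∈ O) (h1 : t • p = p) (h2 : t • q = q)
    (h3 : t • y = y) : p = q ∨ p = y ∨ q = y := by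
  by_contra! e
  have : 2 < #(fx O t) := two_lt_card.2 ⟨p, mem_filter.2 ⟨hp, h1⟩, q, mem_filter.2 ⟨hq, h2⟩, y, mem_filter.2 ⟨hy, h3⟩, e⟩
  rw [B.fx2 ht] at this
  omega

/-- two elements permuting a two-element fixed set -/
theorem BA.swap (B : BA O H) (ht : H t) (hy : y ∈ O) (e : t • y = y) (c1 : Commute g t) (c2 : Commute s t)
    (h1 : g • y ≠ y) (h2 : s • y ≠ y) : g • y = s • y :=
  ((B.three ht hy (B.inv _ _ hy) (B.inv _ _ hy) e (fix_comm c1 e) (fix_comm c2 e)).resolve_left h1.symm).resolve_left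
    h2.symm

theorem BA.fix_all (B : BA O H) (ht : H t) (hy : y ∈ O) (e : t • y = y) (c1 : Commute g t) (h1 : g • y = y) :
    ∀ z ∈ O, t • z = z → g • z = z := fun z hz e' => by
  rcases B.three ht hy hz (B.inv _ _ hz) e e' (fix_comm c1 e') with rfl | f | f
  exacts [h1, by rw [← smul_left_cancel g (h1.trans f), h1], f.symm]

structure Cx (O : Finset X) (H : G → Prop) (S : Sylow 2 G) (p : X) (h : G) : Prop extends BA O H where
  pO : p ∈ O
  hH : H h
  hS : h ∈ (S : Subgroup G)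
  hp : h • p = p
  uq : ∀ s ∈ (S : Subgroup G), H s → s • p = p → s = h
  sw : ∀ s ∈ (S : Subgroup G), ∀ s' ∈ (S : Subgroup G), s • p ≠ p → s' • p ≠ p → (s * s') • p = p
  nf : ∀ s ∈ (S : Subgroup G), s • p ≠ p → ∀ y ∈ O, s • y = y → h • y ≠ y
  out : ∃ t ∈ (S : Subgroup G), H t ∧ t • p ≠ p

theorem BA.exists_cx (B : BA O H) (hc : orderOf c = 2) (S : Sylow 2 G) : ∃ p h, Cx O H S p h := by
  haveI := fact_two
  have hO := B.par 1 (mul_one 1)
  rw [fx, filter_true_of_mem fun p _ => one_smul G p] at hO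
  obtain ⟨E, hE, fE⟩ := fixed_of_odd S.isPGroup' (O.powersetCard 2) (fun k _ E hE => by
    rw [mem_powersetCard] at hE ⊢
    exact ⟨fun y hy => by obtain ⟨z, hz, rfl⟩ := mem_smul_finset.1 hy; exact B.inv _ _ (hE.1 hz),
      (card_smul_finset k E).trans hE.2⟩) (by
    obtain ⟨k, hk⟩ : ∃ k, #O = 4 * k + 2 := ⟨#O / 4, by omega⟩
    rw [card_powersetCard, Nat.choose_two_right, hk, show (4 * k + 2) * (4 * k + 2 - 1) = (2 * k + 1) * (4 * k + 1) * 2
      by rw [show 4 * k + 2 - 1 = 4 * k + 1 from rfl]; ring, Nat.mul_div_cancel _ two_pos]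
    exact Odd.mul ⟨k, rfl⟩ ⟨2 * k, by ring⟩)
  rw [mem_powersetCard, card_eq_two] at hE
  obtain ⟨hE, p, q, pq, rfl⟩ := hE
  have pO : p ∈ O := hE (by simp)
  have qO : q ∈ O := hE (by simp)
  have f1 : ∀ s ∈ (S : Subgroup G), s • p = p ∨ s • p = q := fun s hs => by
    simpa [fE s hs] using smul_mem_smul_finset (a := s) (by simp : p ∈ ({p, q} : Finset X))
  have f2 : ∀ s ∈ (S : Subgroup G), s • q = p ∨ s • q = q := fun s hs => by
    simpa [fE s hs] using smul_mem_smul_finset (a := s) (by simp : q ∈ ({p, q} : Finset X))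
  have f3 : ∀ s ∈ (S : Subgroup G), s • p = p → s • q = q := fun s hs e =>
    (f2 s hs).resolve_left fun e' => pq (smul_left_cancel s (e.trans e'.symm))
  have f4 : ∀ s ∈ (S : Subgroup G), s • p ≠ p → s • p = q ∧ s • q = p := fun s hs e =>
    ⟨(f1 s hs).resolve_left e, (f2 s hs).resolve_right fun e' =>
      pq (smul_left_cancel s (((f1 s hs).resolve_left e).trans e'.symm))⟩
  have sw : ∀ s ∈ (S : Subgroup G), ∀ s' ∈ (S : Subgroup G), s • p ≠ p → s' • p ≠ p → (s * s') • p = p :=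
    fun s hs s' hs' e e' => by rw [mul_smul, (f4 s' hs' e').1, (f4 s hs e).2]
  have uq : ∀ s ∈ (S : Subgroup G), ∀ s' ∈ (S : Subgroup G), H s → H s' → s • p = p → s' • p = p → s = s' :=
    fun s hs s' hs' h1 h2 e e' => B.det h1 h2 pO qO pq e (f3 s hs e) e' (f3 s' hs' e')
  have ni : ∀ z ∈ (S : Subgroup G), orderOf z = 2 → ∃ g, g * z * g⁻¹ ∈ (S : Subgroup G) ∧ g * z * g⁻¹ ≠ z :=
    fun z hz h2 => by
      by_contra! e
      exact B.niso z h2 (Block.isIsolated_of_sylow S hz e)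
  obtain ⟨t, tS, tH⟩ : ∃ t ∈ (S : Subgroup G), H t := by
    obtain ⟨g, hg⟩ := exists_conj_two_mem_sylow S hc
    obtain ⟨z, zS, z2, zc⟩ := exists_central S.isPGroup' fun e =>
      ne_one_of_two ((orderOf_conj g c).trans hc) (mem_bot.1 (e ▸ hg))
    obtain ⟨g, g1, g2⟩ := ni z zS z2
    rcases B.h3 z2 ((orderOf_conj g z).trans z2) g2.symm (zc _ g1) with e | e | e
    exacts [⟨_, zS, e⟩, ⟨_, g1, e⟩, ⟨_, mul_mem zS g1, e⟩]
  obtain ⟨g, hg⟩ := thompson B.no2 S (M := (S : Subgroup G) ⊓ MulAction.stabilizer G p) (fun s hs s' hs' e e' =>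
    ⟨mul_mem hs hs', sw s hs s' hs' (fun f => e ⟨hs, f⟩) fun f => e' ⟨hs', f⟩⟩) (B.two tH)
  have hH := B.conj tH g
  refine ⟨p, _, B, pO, hH, hg.1, hg.2, fun s hs h1 e => uq s hs _ hg.1 h1 hH e hg.2, sw, fun s hs e y hy e1 e2 => ?_, ?_⟩
  · rcases B.three hH hy pO qO e2 hg.2 (f3 _ hg.1 hg.2) with f | f | f
    exacts [e (f ▸ e1), pq ((f4 s hs e).2.symm.trans (f ▸ e1)), pq f]
  · obtain ⟨k, k1, k2⟩ := ni _ hg.1 (B.two hH)
    exact ⟨_, k1, B.conj hH k, fun e => k2 (uq _ k1 _ hg.1 (B.conj hH k) hH e hg.2)⟩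

variable {S : Sylow 2 G}

/-- homologies of `S` moving `p` -/
structure Out (H : G → Prop) (S : Sylow 2 G) (p : X) (t : G) : Prop where
  mem : t ∈ (S : Subgroup G)
  hm : H t
  mv : t • p ≠ p

theorem two_pow_zpowers {x : G} (hx : x ∈ (S : Subgroup G)) (h1 : x ≠ 1) : ∃ z ∈ zpowers x, orderOf z = 2 :=
  exists_two_zpowers_of_even (Nat.not_odd_iff_even.1 fun e => h1 (eq_one_of_odd_of_mem S.isPGroup' hx e))

theorem mem_zpowers_odd (hx : x ∈ (S : Subgroup G)) (i : ℤ) : x ∈ zpowers (x ^ (2 * i + 1)) := by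
  haveI := fact_two
  obtain ⟨k, hk⟩ := pow_eq_one_of_mem S.isPGroup' hx
  obtain ⟨a, b, e⟩ : IsCoprime (2 * i + 1) ((2 : ℤ) ^ k) := IsCoprime.pow_right ⟨1, -i, by ring⟩
  refine ⟨a, ?_⟩
  have : x ^ ((2 : ℤ) ^ k) = 1 := by exact_mod_cast hk
  conv_rhs => rw [← zpow_one x, ← e, zpow_add, mul_comm b, zpow_mul x (2 ^ k), this, one_zpow, mul_one, mul_comm,
    zpow_mul]

theorem zpow_fix (hx : x • p = p) (hd : g ∈ zpowers x) : g • p = p :=
  (zpowers_le_of_mem (H := MulAction.stabilizer G p) hx) hd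

namespace Cx

variable (C : Cx O H S p h)
include C

theorem h2 : orderOf h = 2 := C.two C.hH

theorem conj_fix (hs : s ∈ (S : Subgroup G)) (hg : g ∈ (S : Subgroup G)) : (s * g * s⁻¹) • p = p ↔ g • p = p := by
  by_cases e : s⁻¹ • p = p
  · rw [conj_smul_iff, e]
  by_cases e' : g • p = p
  · rw [mul_assoc, iff_true_intro e', iff_true]
    exact C.sw s hs _ (mul_mem hg (inv_mem hs)) (fun f => e (inv_smul_eq_iff.2 f.symm)) fun f =>
      e (smul_left_cancel g (by rwa [e', smul_smul]))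
  · rw [iff_false_intro e', iff_false, mul_assoc, mul_smul, C.sw g hg _ (inv_mem hs) e' e]
    exact fun f => e (inv_smul_eq_iff.2 f.symm)

theorem cen (hs : s ∈ (S : Subgroup G)) : Commute s h :=
  mul_inv_eq_iff_eq_mul.1 (C.uq _ (mul_mem (mul_mem hs C.hS) (inv_mem hs)) (C.conj C.hH s) ((C.conj_fix hs C.hS).2 C.hp))

theorem out_conj (ht : Out H S p t) (hs : s ∈ (S : Subgroup G)) : Out H S p (s * t * s⁻¹) :=
  ⟨mul_mem (mul_mem hs ht.mem) (inv_mem hs), C.conj ht.hm s, mt (C.conj_fix hs ht.mem).1 ht.mv⟩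

theorem pP' (hc : c ∈ (S : Subgroup G)) (h1 : c • p ≠ p) (h2 : c * c = 1) (cm : Commute w c) : w * w ≠ h :=
  fun e => C.pP h2 cm (e ▸ C.h2) (e ▸ C.nf c hc h1)

theorem out_pow (ht : Out H S p t) (hs : Out H S p s) (k : ℤ) : Out H S p (t * (t * s) ^ k) := by
  obtain ⟨j, hj⟩ := exists_conj_left_mul_zpow (mul_self_of_two (C.two ht.hm)) (mul_self_of_two (C.two hs.hm)) k
  have := zpow_mem (mul_mem ht.mem hs.mem) j
  rcases hj with ⟨-, e⟩ | ⟨-, e⟩
  exacts [e ▸ C.out_conj ht this, e ▸ C.out_conj hs this]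

theorem eq_h (ht : Out H S p t) (hs : Out H S p s) (hv : v ∈ zpowers (t * s)) (h2 : orderOf v = 2) : v = h := by
  obtain ⟨k, rfl⟩ := mem_zpowers_iff.1 hv
  have t2 := mul_self_of_two (C.two ht.hm)
  have e := C.h1 ht.hm (C.out_pow ht hs k).hm (fun e => ne_one_of_two h2 (mul_eq_left.1 e.symm))
    ((Commute.refl t).mul_right (commute_of_inverts (conj_zpow_of_inv
      (left_inverts t2 (mul_self_of_two (C.two hs.hm))) k) (mul_self_of_two h2)).symm)
  rw [← mul_assoc, t2, one_mul] at e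
  exact C.uq _ (zpow_mem (mul_mem ht.mem hs.mem) k) e (zpow_fix (C.sw t ht.mem s hs.mem ht.mv hs.mv) hv)

theorem exists_sq (ht : Out H S p t) (hs : Out H S p s) (hw : w * w ∈ zpowers (t * s)) (h1 : w * w ≠ 1) :
    ∃ k : ℤ, w ^ k * w ^ k = h := by
  obtain ⟨z, hz, z2⟩ := two_pow_zpowers (S := S) (zpowers_le_of_mem (mul_mem ht.mem hs.mem) hw) h1
  obtain ⟨k, rfl⟩ := mem_zpowers_iff.1 hz
  exact ⟨k, by rw [← (Commute.refl w).mul_zpow]; exact C.eq_h ht hs (zpow_mem hw k) z2⟩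

theorem exists_dih : ∃ t s, Out H S p t ∧ Out H S p s ∧ t ≠ s ∧ ∀ u, Out H S p u → ∃ k : ℤ, u = t * (t * s) ^ k := by
  haveI := fact_two
  obtain ⟨t₀, h0, h1, h2⟩ := C.out
  obtain ⟨⟨t, s⟩, ⟨ht, hs⟩, hm⟩ := Set.exists_max_image {a : G × G | Out H S p a.1 ∧ Out H S p a.2}
    (fun a => orderOf (a.1 * a.2)) (Set.toFinite _) ⟨(t₀, t₀), ⟨h0, h1, h2⟩, ⟨h0, h1, h2⟩⟩
  dsimp only at ht hs hm
  have t2 := mul_self_of_two (C.two ht.hm)
  have s2 := mul_self_of_two (C.two hs.hm)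
  have ts : t ≠ s := by
    rintro rfl
    have := hm (t, t * h) ⟨ht, mul_mem ht.mem C.hS, C.h1 ht.hm C.hH (fun e => ht.mv (e ▸ C.hp)) (C.cen ht.mem),
      by rw [mul_smul, C.hp]; exact ht.mv⟩
    simp [← mul_assoc, t2, C.h2] at this
  refine ⟨t, s, ht, hs, ts, ?_⟩
  obtain ⟨K, ⟨k1, k2, k3, k4⟩, hK⟩ := Set.Finite.exists_maximal (s := {K : Subgroup G | K ≤ S ∧ t ∈ K ∧ s ∈ K ∧
    ∀ u ∈ K, Out H S p u → ∃ k : ℤ, u = t * (t * s) ^ k}) (Set.toFinite _) ⟨closure {t, s},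
      (closure_le _).2 (Set.insert_subset ht.mem (Set.singleton_subset_iff.2 hs.mem)), subset_closure (by simp),
      subset_closure (by simp), fun u hu ho => by
        obtain ⟨k, rfl | rfl⟩ := (mem_closure_invols_iff t2 s2 u).1 hu
        exacts [(ho.mv (zpow_fix (C.sw t ht.mem s hs.mem ht.mv hs.mv) ⟨k, rfl⟩)).elim, ⟨k, rfl⟩]⟩
  rcases k1.eq_or_lt with e | e
  · exact fun u hu => k4 u (e ▸ hu.mem) hu
  have l := lt_inf_normalizer S.isPGroup' e
  refine (l.not_ge (hK ⟨inf_le_left, l.le k2, l.le k3, fun u hu ho => ?_⟩ l.le)).elim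
  have u2 := mul_self_of_two (C.two ho.hm)
  have ui := inv_of_two (C.two ho.hm)
  obtain ⟨i, hi⟩ := k4 _ (conj_mem_of_mem_normalizer hu.2 k2) (C.out_conj ht ho.mem)
  obtain ⟨j, hj⟩ := k4 _ (conj_mem_of_mem_normalizer hu.2 k3) (C.out_conj hs ho.mem)
  have inv := left_inverts t2 s2
  set x := t * s with hx
  have xS : x ∈ (S : Subgroup G) := mul_mem ht.mem hs.mem
  have xp : x • p = p := C.sw t ht.mem s hs.mem ht.mv hs.mv
  have ux : u * x * u⁻¹ ∈ zpowers x := by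
    rw [show u * x * u⁻¹ = (u * t * u⁻¹) * (u * s * u⁻¹) by rw [hx]; group, hi, hj,
      show t * x ^ i * (t * x ^ j) = t * x ^ i * t⁻¹ * (t * t) * x ^ j by group, conj_zpow_of_inv inv, t2, mul_one]
    exact mul_mem (inv_mem (zpow_mem_zpowers _ _)) (zpow_mem_zpowers _ _)
  rcases Int.even_or_odd' i with ⟨i, rfl | rfl⟩
  · have cm : Commute (x ^ i * u) t := mul_inv_eq_iff_eq_mul.1 (by
      rw [mul_inv_rev, show x ^ i * u * t * (u⁻¹ * (x ^ i)⁻¹) = x ^ i * (u * t * u⁻¹) * (x ^ i)⁻¹ by group, hi,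
        conj_refl_by_rot inv]
      simp)
    have g2 : x ^ i * u * (x ^ i * u) = 1 := by
      by_contra e
      obtain ⟨k, hk⟩ := C.exists_sq ht hs (w := x ^ i * u) (by
        rw [show x ^ i * u * (x ^ i * u) = x ^ i * (u * x * u⁻¹) ^ i * (u * u) by rw [conj_zpow]; group, u2, mul_one]
        exact mul_mem (zpow_mem_zpowers _ _) (zpow_mem ux _)) e
      exact C.pP' ht.mem ht.mv t2 (cm.zpow_left k) hk
    have o := C.out_pow ht hs i
    by_cases e : t * x ^ i = u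
    · exact ⟨i, e.symm⟩
    have e1 : t * x ^ i * u * (t * x ^ i * u) = 1 := by
      rw [mul_assoc t, ← sq, cm.symm.mul_pow, sq, sq, t2, g2, one_mul]
    have e2 := C.uq _ (mul_mem o.mem ho.mem) (C.h1 o.hm ho.hm e (by
      have := inv_eq_of_mul_eq_one_left e1
      rwa [mul_inv_rev, ui, inv_of_two (C.two o.hm), eq_comm] at this)) (C.sw _ o.mem _ ho.mem o.mv ho.mv)
    obtain ⟨z, hz, z2⟩ := two_pow_zpowers xS fun e => ts (by rw [← inv_of_two (C.two hs.hm), eq_inv_iff_mul_eq_one, ← hx, e])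
    obtain ⟨k, rfl⟩ := mem_zpowers_iff.1 hz
    exact ⟨i + k, by rw [zpow_add, C.eq_h ht hs hz z2, ← e2, ← mul_assoc, ← mul_assoc, mul_self_of_two (C.two o.hm), one_mul]⟩
  · have e : (t * u) ^ 2 = x ^ (2 * i + 1) := by
      rw [show (t * u) ^ 2 = t * (u * t * u⁻¹) by rw [sq, ui]; group, hi, ← mul_assoc, t2, one_mul]
    have h1 : x ∈ zpowers ((t * u) ^ 2) := e ▸ mem_zpowers_odd xS i
    have h2 := (Nat.le_of_dvd (orderOf_pos _) (orderOf_dvd_of_mem_zpowers h1)).trans' (hm (t, u) ⟨ht, ho⟩)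
    obtain ⟨z, hz, z2⟩ := two_pow_zpowers (mul_mem ht.mem ho.mem) fun e' => ts (by
      rw [e', one_pow, zpowers_one_eq_bot, mem_bot] at h1
      rw [← inv_of_two (C.two hs.hm), eq_inv_iff_mul_eq_one, ← hx, h1])
    rw [orderOf_pow_of_dvd two_ne_zero (z2 ▸ orderOf_dvd_of_mem_zpowers hz)] at h2
    have := orderOf_pos (t * u)
    dsimp only at h2
    omega

end Cx

end Cfsg.Lib.Oval
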