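import Cfsg.Agent.Lib.Oval.Baer1

/-! Elimination of Baer involutions, II: structure of the Sylow subgroup. -/

set_option autoImplicit false
set_option linter.unusedSectionVars false
set_option linter.style.haveILetI false

namespace Cfsg.Lib.Oval

open Finset Cfsg.Lib.Invol Cfsg.Lib.Transfer Subgroup
open scoped Classical

variable {G X : Type*} [Group G] [Finite G] [MulAction G X]
variable {O : Finset X} {H : G → Prop} {t s s' u v w c d g h x b r : G} {p q y : X} {S : Sylow 2 G}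

structure Dx (O : Finset X) (H : G → Prop) (S : Sylow 2 G) (p : X) (h t x : G) : Prop extends Cx O H S p h where
  ot : Out H S p t
  os : Out H S p (t * x)
  x1 : x ≠ 1
  all : ∀ u, Out H S p u → ∃ k : ℤ, u = t * x ^ k

theorem Cx.exists_dx (C : Cx O H S p h) : ∃ t x, Dx O H S p h t x := by
  obtain ⟨t, s, ht, hs, e, h1⟩ := C.exists_dih
  have t2 := mul_self_of_two (C.two ht.hm)
  exact ⟨t, t * s, C, ht, by rwa [← mul_assoc, t2, one_mul], fun e' => e (mul_left_cancel (a := t) (t2.trans e'.symm)), h1⟩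

/-- elements centralising or inverting `x` -/
def KK (x : G) : Subgroup G where
  carrier := {g | g * x * g⁻¹ = x ∨ g * x * g⁻¹ = x⁻¹}
  one_mem' := Or.inl (by simp)
  mul_mem' := by
    intro a b ha hb
    have e : a * b * x * (a * b)⁻¹ = a * (b * x * b⁻¹) * a⁻¹ := by group
    have e' : a * x⁻¹ * a⁻¹ = (a * x * a⁻¹)⁻¹ := by group
    rcases ha with ha | ha <;> rcases hb with hb | hb <;> simp only [Set.mem_ofPred_eq, e, e', ha, hb] <;> simp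
  inv_mem' := by
    rintro a (ha | ha)
    · exact Or.inl (by conv_lhs => rw [← ha]
                       group)
    · exact Or.inr (by rw [show a⁻¹ * x * a⁻¹⁻¹ = (a⁻¹ * x⁻¹ * a)⁻¹ by group, inv_inj, ← ha]; group)

theorem mem_KK : g ∈ KK x ↔ g * x * g⁻¹ = x ∨ g * x * g⁻¹ = x⁻¹ := Iff.rfl

def AA (S : Sylow 2 G) (p : X) (u : G) (y : X) : Subgroup G :=
  (S : Subgroup G) ⊓ MulAction.stabilizer G p ⊓ centralizer {u} ⊓ MulAction.stabilizer G y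

theorem mem_AA : r ∈ AA S p u y ↔ r ∈ (S : Subgroup G) ∧ r • p = p ∧ Commute r u ∧ r • y = y := by
  simp [AA, mem_cent, and_assoc]

abbrev DD (t x : G) : Subgroup G := closure {t, x}
def Ev (t x s : G) : Prop := ∃ j : ℤ, s * t * s⁻¹ = t * x ^ (2 * j)
def Od (t x s : G) : Prop := ∃ j : ℤ, s * t * s⁻¹ = t * x ^ (2 * j + 1)

theorem t_mem : t ∈ DD t x := subset_closure (by simp)
theorem z_mem (hd : d ∈ zpowers x) : d ∈ DD t x := zpowers_le_of_mem (subset_closure (by simp)) hd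

theorem comm_z (h : Commute g x) (hd : d ∈ zpowers x) : Commute g d := let ⟨k, hk⟩ := hd; hk ▸ h.zpow_right k

theorem comm_D (h1 : Commute g t) (h : Commute g x) (hd : d ∈ DD t x) : Commute g d :=
  (mem_cent.1 ((closure_le (centralizer {g})).2 (Set.insert_subset (mem_cent.2 h1.symm)
    (Set.singleton_subset_iff.2 (mem_cent.2 h.symm))) hd)).symm

namespace Cx

variable (C : Cx O H S p h) (hu : Out H S p u) (hy : y ∈ O) (uy : u • y = y)
include C hu hy uy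

theorem h_nmem : h ∉ AA S p u y := fun e => C.nf u hu.mem hu.mv y hy uy (mem_AA.1 e).2.2.2

theorem A_nH (hr : r ∈ AA S p u y) : ¬ H r := fun e =>
  C.h_nmem hu hy uy (C.uq r (mem_AA.1 hr).1 e (mem_AA.1 hr).2.1 ▸ hr)

theorem dec (hg : g ∈ (S : Subgroup G)) (h1 : g • p = p) (cm : Commute g u) :
    g ∈ AA S p u y ∨ h * g ∈ AA S p u y := by
  by_cases e : g • y = y
  · exact Or.inl (mem_AA.2 ⟨hg, h1, cm, e⟩)
  refine Or.inr (mem_AA.2 ⟨mul_mem C.hS hg, mul_fix C.hp h1, (C.cen hu.mem).symm.mul_left cm, ?_⟩)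
  rw [mul_smul, C.swap hu.hm hy uy cm (C.cen hu.mem).symm e (C.nf u hu.mem hu.mv y hy uy),
    smul_smul_self (mul_self_of_two C.h2)]

theorem A_uq (hb : b ∈ AA S p u y) (hc : c ∈ AA S p u y) (b2 : orderOf b = 2) (c2 : orderOf c = 2) : b = c := by
  have key : ∀ {b c}, b ∈ AA S p u y → c ∈ AA S p u y → orderOf b = 2 → orderOf c = 2 → Commute b c → b = c :=
    fun {b c} hb hc b2 c2 cm => by_contra fun e => by
      rcases C.h3 b2 c2 e cm with f | f | f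
      exacts [C.A_nH hu hy uy hb f, C.A_nH hu hy uy hc f, C.A_nH hu hy uy (mul_mem hb hc) f]
  by_contra e
  obtain ⟨h1, h2, h3⟩ := exists_central_of_even (mul_self_of_two b2) (mul_self_of_two c2)
    (Nat.not_odd_iff_even.1 fun f => e (mul_left_cancel (a := b) ((mul_self_of_two b2).trans
      (eq_one_of_odd_of_mem S.isPGroup' (mem_AA.1 (mul_mem hb hc)).1 f).symm)))
  have := pow_mem (mul_mem hb hc) (orderOf (b * c) / 2)
  exact e ((key this hb h1 b2 h2).symm.trans (key this hc h1 c2 h3))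

end Cx

namespace Dx

variable (C : Dx O H S p h t x)
include C

theorem t2 : t * t = 1 := mul_self_of_two (C.two C.ot.hm)
theorem ttx : t * (t * x) = x := by rw [← mul_assoc, C.t2, one_mul]
theorem tinv : t * x * t⁻¹ = x⁻¹ := by
  simpa only [C.ttx] using left_inverts C.t2 (mul_self_of_two (C.two C.os.hm))
theorem xS : x ∈ (S : Subgroup G) := C.ttx ▸ mul_mem C.ot.mem C.os.mem
theorem xp : x • p = p := C.ttx ▸ C.sw _ C.ot.mem _ C.os.mem C.ot.mv C.os.mv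
theorem eqh (hv : v ∈ zpowers x) (h2 : orderOf v = 2) : v = h := C.eq_h C.ot C.os (C.ttx.symm ▸ hv) h2
theorem eqh' (hv : v ∈ zpowers x) (h2 : v * v = 1) : v = 1 ∨ v = h :=
  (em _).imp id fun e => C.eqh hv (two_of_mul_self h2 e)
theorem esq (hw : w * w ∈ zpowers x) (h1 : w * w ≠ 1) : ∃ k : ℤ, w ^ k * w ^ k = h :=
  C.exists_sq C.ot C.os (C.ttx.symm ▸ hw) h1
theorem hz (hv : v ∈ zpowers x) (h1 : v ≠ 1) : h ∈ zpowers v :=
  let ⟨_, hz, z2⟩ := two_pow_zpowers (zpowers_le_of_mem C.xS hv) h1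
  C.eqh (zpowers_le_of_mem hv hz) z2 ▸ hz
theorem hx : h ∈ zpowers x := C.hz (mem_zpowers x) C.x1
theorem opow (k : ℤ) : Out H S p (t * x ^ k) := by simpa only [C.ttx] using C.out_pow C.ot C.os k
theorem odd_ne (i : ℤ) : x ^ (2 * i + 1) ≠ 1 := fun e => C.x1 (by simpa [e] using mem_zpowers_odd C.xS i)
theorem txt (k : ℤ) : t * x ^ k * t = x ^ (-k) := by
  rw [zpow_neg, ← conj_zpow_of_inv C.tinv, inv_eq_of_mul_eq_one_left C.t2]

theorem mem_D : d ∈ DD t x ↔ ∃ k : ℤ, d = x ^ k ∨ d = t * x ^ k :=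
  mem_closure_pair_iff (C.tinv ▸ inv_mem (mem_zpowers x)) (C.t2 ▸ one_mem _) d

theorem D_T (hd : d ∈ DD t x) (e : d • p = p) : d ∈ zpowers x := by
  obtain ⟨k, rfl | rfl⟩ := C.mem_D.1 hd
  exacts [⟨k, rfl⟩, ((C.opow k).mv e).elim]

theorem D_H (hd : d ∈ DD t x) (e : orderOf d = 2) : H d := by
  obtain ⟨k, rfl | rfl⟩ := C.mem_D.1 hd
  exacts [C.eqh (zpow_mem_zpowers x k) e ▸ C.hH, (C.opow k).hm]

theorem D_S (hd : d ∈ DD t x) : d ∈ (S : Subgroup G) :=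
  (closure_le _).2 (Set.insert_subset C.ot.mem (Set.singleton_subset_iff.2 C.xS)) hd

theorem D_K (hd : d ∈ DD t x) : d ∈ KK x :=
  (closure_le _).2 (Set.insert_subset (Or.inr C.tinv) (Set.singleton_subset_iff.2 (Or.inl (by simp)))) hd

theorem ev_od (hs : s ∈ (S : Subgroup G)) : Ev t x s ∨ Od t x s := by
  obtain ⟨k, hk⟩ := C.all _ (C.out_conj C.ot hs)
  obtain ⟨j, rfl | rfl⟩ := Int.even_or_odd' k
  exacts [Or.inl ⟨j, hk⟩, Or.inr ⟨j, hk⟩]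

theorem nx' (hs : s ∈ (S : Subgroup G)) : ∃ e : ℤ, s * x * s⁻¹ = x ^ e := by
  obtain ⟨i, hi⟩ := C.all _ (C.out_conj C.ot hs)
  obtain ⟨j, hj⟩ := C.all _ (C.out_conj C.os hs)
  exact ⟨-i + j, by rw [zpow_add, ← C.txt, mul_assoc _ t, ← hi, ← hj]; conv_lhs => rw [← C.ttx]
                    group⟩

theorem nx (hs : s ∈ (S : Subgroup G)) : ∃ e : ℤ, s * x * s⁻¹ = x ^ (2 * e + 1) := by
  obtain ⟨e, he⟩ := C.nx' hs
  obtain ⟨f, hf⟩ := C.nx' (inv_mem hs)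
  obtain ⟨j, rfl | rfl⟩ := Int.even_or_odd' e
  · refine (C.odd_ne (f * j - 1) ?_).elim
    rw [show 2 * (f * j - 1) + 1 = f * (2 * j) - 1 by ring, zpow_sub_one, zpow_mul, ← hf, conj_zpow, ← he]
    group
  · exact ⟨j, he⟩

theorem nz (hs : s ∈ (S : Subgroup G)) (hd : d ∈ zpowers x) : s * d * s⁻¹ ∈ zpowers x := by
  obtain ⟨k, rfl⟩ := mem_zpowers_iff.1 hd
  obtain ⟨e, he⟩ := C.nx' hs
  rw [← conj_zpow, he]
  exact zpow_mem (zpow_mem_zpowers _ _) _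

theorem nD (hs : s ∈ (S : Subgroup G)) (hd : d ∈ DD t x) : s * d * s⁻¹ ∈ DD t x := by
  obtain ⟨k, rfl | rfl⟩ := C.mem_D.1 hd
  · exact z_mem (C.nz hs ⟨k, rfl⟩)
  · obtain ⟨j, hj⟩ := C.all _ (C.out_conj (C.opow k) hs)
    exact C.mem_D.2 ⟨j, Or.inr hj⟩

theorem ex_mul (hs : s ∈ (S : Subgroup G)) {i j : ℤ} (h1 : s * t * s⁻¹ = t * x ^ i) (h2 : s' * t * s'⁻¹ = t * x ^ j) :
    ∃ e : ℤ, s * s' * t * (s * s')⁻¹ = t * x ^ (i + (2 * e + 1) * j) := by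
  obtain ⟨e, he⟩ := C.nx hs
  exact ⟨e, by rw [zpow_add, zpow_mul, ← he, ← mul_assoc, ← h1, conj_zpow,
    show s * s' * t * (s * s')⁻¹ = s * (s' * t * s'⁻¹) * s⁻¹ by group, h2]; group⟩

theorem od_od (hs : s ∈ (S : Subgroup G)) (h1 : Od t x s) (h2 : Od t x s') : Ev t x (s * s') :=
  let ⟨i, h1⟩ := h1; let ⟨j, h2⟩ := h2; let ⟨e, he⟩ := C.ex_mul hs h1 h2
  ⟨i + j + 1 + e * (2 * j + 1), he.trans (by congr 2; ring)⟩

theorem not_ev (h1 : Od t x s) : ¬ Ev t x s := fun ⟨i, h2⟩ => by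
  obtain ⟨j, h1⟩ := h1
  refine C.odd_ne (j - i) ?_
  rw [show 2 * (j - i) + 1 = 2 * j + 1 - 2 * i by ring, zpow_sub, mul_left_cancel (h1.symm.trans h2), mul_inv_cancel]

theorem od_inv (hs : s ∈ (S : Subgroup G)) (h1 : Od t x s) : Od t x s⁻¹ :=
  (C.ev_od (inv_mem hs)).resolve_left fun ⟨j, h2⟩ => by
    obtain ⟨i, h1⟩ := h1
    obtain ⟨e, he⟩ := C.ex_mul hs h1 h2
    exact C.not_ev (s := 1) ⟨i + (2 * e + 1) * j, by rw [← mul_inv_cancel s, he]; congr 2; ring⟩ ⟨0, by simp⟩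

theorem ev_conj (hs : s ∈ (S : Subgroup G)) (hg : g ∈ (S : Subgroup G)) (cm : Commute g t) : Ev t x (s * g * s⁻¹) := by
  obtain ⟨i, hi⟩ := C.all _ (C.out_conj C.ot (inv_mem hs))
  obtain ⟨e, he⟩ := C.ex_mul hg (i := 0) (by simp [cm.eq]) hi
  obtain ⟨f, hf⟩ := C.nx' hs
  refine ⟨f * (e * i), ?_⟩
  rw [show s * g * s⁻¹ * t * (s * g * s⁻¹)⁻¹ = s * (g * s⁻¹ * t * (g * s⁻¹)⁻¹) * s⁻¹ by group, he,
    show 0 + (2 * e + 1) * i = i + 2 * (e * i) by ring, zpow_add, ← mul_assoc t, ← hi,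
    show 2 * (f * (e * i)) = f * (2 * (e * i)) by ring, zpow_mul x f, ← hf, conj_zpow]
  group

theorem comm_K (hs : s ∈ (S : Subgroup G)) (hs' : s' ∈ (S : Subgroup G)) : s * s' * s⁻¹ * s'⁻¹ ∈ KK x := by
  obtain ⟨i, hi⟩ := C.nx' hs
  obtain ⟨j, hj⟩ := C.nx' hs'
  obtain ⟨k, hk⟩ := C.nx' (inv_mem (mul_mem hs' hs))
  have e1 : s * s' * x * (s * s')⁻¹ = x ^ (i * j) := by
    rw [zpow_mul, ← hi, conj_zpow, ← hj]; group
  have e2 : s' * s * x * (s' * s)⁻¹ = x ^ (i * j) := by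
    rw [mul_comm i, zpow_mul, ← hj, conj_zpow, ← hi]; group
  left
  rw [show s * s' * s⁻¹ * s'⁻¹ * x * (s * s' * s⁻¹ * s'⁻¹)⁻¹ = s * s' * ((s' * s)⁻¹ * x * (s' * s)⁻¹⁻¹) * (s * s')⁻¹
    by group, hk, ← conj_zpow, e1, ← e2, conj_zpow, ← hk]
  group

theorem od_two (u2 : u * u = 1) (h1 : Od t x u) : (∃ i : ℤ, t * u * (t * u) = x ^ (2 * i + 1)) ∧
    Commute (t * u) x ∧ u * x * u⁻¹ = x⁻¹ := by
  obtain ⟨i, hi⟩ := h1
  have e : t * u * (t * u) = x ^ (2 * i + 1) := by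
    rw [← one_mul (x ^ _), ← C.t2, mul_assoc t t, ← hi, inv_eq_of_mul_eq_one_left u2]; group
  have c := comm_z ((Commute.refl _).mul_right (Commute.refl (t * u))) (e ▸ mem_zpowers_odd C.xS i)
  refine ⟨⟨i, e⟩, c, ?_⟩
  rw [← C.tinv, show u = t * (t * u) by rw [← mul_assoc, C.t2, one_mul], mul_assoc t, c.eq]
  group

theorem pP2 (hb : b ∈ (S : Subgroup G)) (bp : b • p = p) (b2 : b * b = 1) (cm : Commute b t) (hd : d ∈ zpowers x)
    (e : b * d * b⁻¹ = d⁻¹) : d * d = 1 := by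
  by_contra e'
  obtain ⟨k, hk⟩ := C.esq (mul_mem hd hd) e'
  refine C.pP' (mul_mem C.ot.mem hb) (by rw [mul_smul, bp]; exact C.ot.mv)
    (by rw [← sq, cm.symm.mul_pow, sq, sq, C.t2, b2, one_mul]) (Commute.zpow_left ?_ k) hk
  obtain ⟨j, rfl⟩ := mem_zpowers_iff.1 hd
  refine (mul_inv_eq_iff_eq_mul.1 ?_ : Commute (t * b) _).symm
  rw [show t * b * x ^ j * (t * b)⁻¹ = t * (b * x ^ j * b⁻¹) * t⁻¹ by group, e, ← zpow_neg, conj_zpow_of_inv C.tinv]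
  group

theorem A_z (hu : Out H S p u) (hy : y ∈ O) (uy : u • y = y) (hr : r ∈ AA S p u y) (h1 : r ∈ zpowers x) : r = 1 :=
  by_contra fun e => C.h_nmem hu hy uy (zpowers_le_of_mem hr (C.hz h1 e))

variable (hy : y ∈ O) (ty : t • y = y)
include hy ty

theorem A_D (hr : r ∈ AA S p t y) (h1 : r ∈ DD t x) : r = 1 := C.A_z C.ot hy ty hr (C.D_T h1 (mem_AA.1 hr).2.1)

theorem ev_dec (hs : s ∈ (S : Subgroup G)) (h1 : Ev t x s) : ∃ d ∈ DD t x, ∃ r ∈ AA S p t y, s = d * r := by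
  obtain ⟨j, hj⟩ := h1
  have key : ∀ d ∈ DD t x, (d * s) • p = p → Commute (d * s) t → ∃ d ∈ DD t x, ∃ r ∈ AA S p t y, s = d * r :=
    fun d hd e cm => (C.dec C.ot hy ty (mul_mem (C.D_S hd) hs) e cm).elim (fun f => ⟨d⁻¹, inv_mem hd, _, f, by group⟩)
      fun f => ⟨(h * d)⁻¹, inv_mem (mul_mem (z_mem C.hx) hd), _, f, by group⟩
  have cm : Commute (x ^ j * s) t := mul_inv_eq_iff_eq_mul.1 (by
    rw [show x ^ j * s * t * (x ^ j * s)⁻¹ = x ^ j * (s * t * s⁻¹) * (x ^ j)⁻¹ by group, hj, conj_refl_by_rot C.tinv]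
    simp)
  by_cases e : (x ^ j * s) • p = p
  · exact key _ (z_mem ⟨j, rfl⟩) e cm
  · exact key _ (mul_mem t_mem (z_mem ⟨j, rfl⟩)) (mul_assoc t _ s ▸ C.sw t C.ot.mem _
      (mul_mem (zpow_mem C.xS j) hs) C.ot.mv e) (mul_assoc t _ s ▸ (Commute.refl t).mul_left cm)

omit hy ty in
theorem sqD (hd : d ∈ DD t x) (hr : r ∈ (S : Subgroup G)) : d * r * (d * r) * (r * r)⁻¹ ∈ DD t x := by
  rw [show d * r * (d * r) * (r * r)⁻¹ = d * (r * d * r⁻¹) by group]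
  exact mul_mem hd (C.nD hr hd)

theorem baer_ev' (hv : v ∈ (S : Subgroup G)) (v2 : orderOf v = 2) (nH : ¬ H v) (h1 : Ev t x v) :
    ∃ r ∈ AA S p t y, orderOf r = 2 ∧ v * r⁻¹ ∈ DD t x := by
  obtain ⟨d, hd, r, hr, rfl⟩ := C.ev_dec hy ty hv h1
  have := C.sqD hd (mem_AA.1 hr).1
  rw [mul_self_of_two v2, one_mul, inv_mem_iff] at this
  exact ⟨r, hr, two_of_mul_self (C.A_D hy ty (mul_mem hr hr) this) fun e => nH (C.D_H (by simpa [e]) v2), by simpa⟩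

theorem baer_ev (hb : b ∈ AA S p t y) (b2 : orderOf b = 2) (hv : v ∈ (S : Subgroup G)) (v2 : orderOf v = 2)
    (nH : ¬ H v) (h1 : Ev t x v) : v * b⁻¹ ∈ DD t x :=
  let ⟨_, hr, r2, e⟩ := C.baer_ev' hy ty hv v2 nH h1
  C.A_uq C.ot hy ty hr hb r2 b2 ▸ e

theorem conj_b (hb : b ∈ AA S p t y) (b2 : orderOf b = 2) (hs : s ∈ (S : Subgroup G)) :
    s * b * s⁻¹ * b⁻¹ ∈ zpowers x := by
  obtain ⟨b1, bp, bt, -⟩ := mem_AA.1 hb
  exact C.D_T (C.baer_ev hy ty hb b2 (mul_mem (mul_mem hs b1) (inv_mem hs)) ((orderOf_conj s b).trans b2)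
    (fun e => C.A_nH C.ot hy ty hb (C.conj' s e)) (C.ev_conj hs b1 bt))
    (mul_fix ((C.conj_fix hs b1).2 bp) (inv_smul_eq_iff.2 bp.symm))

end Dx

end Cfsg.Lib.Oval
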