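import Cfsg.Agent.Lib.Oval.Baer2

/-! Elimination of Baer involutions, III: transfer. -/

set_option autoImplicit false
set_option linter.unusedSectionVars false
set_option linter.style.haveILetI false

namespace Cfsg.Lib.Oval

open Finset Cfsg.Lib.Invol Cfsg.Lib.Transfer Subgroup
open scoped Classical

variable {G X : Type*} [Group G] [Finite G] [MulAction G X]
variable {O : Finset X} {H : G → Prop} {t s s' u v w c d g h x b r : G} {p q y z : X} {S : Sylow 2 G}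

theorem exists_two_cosets {D : Subgroup G} (h1 : ∀ d ∈ D, w * d * w⁻¹ ∈ D) (h2 : w * w ∈ D) :
    ∃ M : Subgroup G, ∀ g, g ∈ M ↔ g ∈ D ∨ g * w⁻¹ ∈ D := by
  have h3 : ∀ d ∈ D, w⁻¹ * d * w ∈ D := fun d hd => by
    rw [show w⁻¹ * d * w = (w * w)⁻¹ * (w * d * w⁻¹) * (w * w) by group]
    exact mul_mem (mul_mem (inv_mem h2) (h1 d hd)) h2
  refine ⟨⟨⟨⟨{g | g ∈ D ∨ g * w⁻¹ ∈ D}, ?_⟩, Or.inl (one_mem D)⟩, ?_⟩, fun g => Iff.rfl⟩
  · rintro a b (ha | ha) (hb | hb)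
    · exact Or.inl (mul_mem ha hb)
    · exact Or.inr (mul_assoc a b _ ▸ mul_mem ha hb)
    · exact Or.inr (by simpa [mul_assoc] using mul_mem ha (h1 b hb))
    · exact Or.inl (by simpa [mul_assoc] using mul_mem (mul_mem ha (h1 _ hb)) h2)
  · rintro a (ha | ha)
    · exact Or.inl (inv_mem ha)
    · exact Or.inr (by simpa [mul_assoc] using mul_mem (h3 _ (inv_mem ha)) (inv_mem h2))

/-- `c` fixes the fixed points of `u` -/
def Fp (O : Finset X) (c u : G) : Prop := ∀ z ∈ O, u • z = z → c • z = z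

theorem BA.fp_conj (B : BA O H) (h : Fp O c u) (g : G) : Fp O (g * c * g⁻¹) (g * u * g⁻¹) :=
  fun _ hz e => conj_smul_iff.2 (h _ (B.inv _ _ hz) (conj_smul_iff.1 e))

theorem BA.fp_comm (B : BA O H) (h : Fp O c u) (cm : Commute c g) : Fp O c (g * u * g⁻¹) := by
  simpa [← cm.eq] using B.fp_conj h g

theorem eq_one_odd (hv : v ∈ (S : Subgroup G)) {i : ℤ} (h : v ^ (2 * i + 1) = 1) : v = 1 := by
  simpa [h] using mem_zpowers_odd hv i

namespace Dx

variable (C : Dx O H S p h t x)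
include C

theorem sq_roots (hr : r ∈ (S : Subgroup G)) (h1 : Commute (r * r) x) (h2 : r ∉ KK x) :
    r * x * r⁻¹ = x * h ∨ r * x * r⁻¹ = x⁻¹ * h := by
  obtain ⟨e, he⟩ := C.nx hr
  have e1 : x ^ (4 * e * (e + 1)) = 1 := by
    rw [show 4 * e * (e + 1) = (2 * e + 1) * (2 * e + 1) - 1 by ring, zpow_sub_one, zpow_mul, ← he, conj_zpow, ← he,
      show r * (r * x * r⁻¹) * r⁻¹ = r * r * x * (r * r)⁻¹ by group, h1.eq]
    group
  obtain ⟨j, rfl | rfl⟩ := Int.even_or_odd' e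
  · have := eq_one_odd (zpow_mem C.xS (4 * (2 * j))) (i := j) (by rw [← zpow_mul, e1])
    rcases C.eqh' (zpow_mem_zpowers x (2 * (2 * j))) (by rw [← zpow_add, ← this]; congr 1; ring) with f | f
    exacts [(h2 (Or.inl (by rw [he, zpow_add_one, f, one_mul]))).elim, Or.inl (by rw [he, add_comm, zpow_one_add, f])]
  · have := eq_one_odd (zpow_mem C.xS (4 * (2 * j + 2))) (i := j) (by rw [← zpow_mul, ← e1]; congr 1; ring)
    have e2 : r * x * r⁻¹ = x⁻¹ * x ^ (2 * (2 * j + 2)) := by rw [he]; group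
    rcases C.eqh' (zpow_mem_zpowers x (2 * (2 * j + 2))) (by rw [← zpow_add, ← this]; congr 1; ring) with f | f
    exacts [(h2 (Or.inr (by rw [e2, f, mul_one]))).elim, Or.inr (by rw [e2, f])]

theorem mul_K (hr : r ∈ (S : Subgroup G)) (hs : s ∈ (S : Subgroup G)) (h1 : Commute (r * r) x) (h2 : r ∉ KK x)
    (h3 : Commute (s * s) x) (h4 : s ∉ KK x) : r * s ∈ KK x := by
  have e1 : ∀ a, r * (a * h) * r⁻¹ = r * a * r⁻¹ * h := fun a => by rw [← mul_assoc, mul_assoc _ h, mul_assoc _ r⁻¹,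
    (C.cen (inv_mem hr)).eq]
  have e2 : r * x⁻¹ * r⁻¹ = (r * x * r⁻¹)⁻¹ := by group
  have e3 := (C.cen C.xS).eq
  have e4 := (C.cen (inv_mem C.xS)).eq
  have e5 := mul_self_of_two C.h2
  rw [mem_KK, show r * s * x * (r * s)⁻¹ = r * (s * x * s⁻¹) * r⁻¹ by group]
  rcases C.sq_roots hr h1 h2 with a | a <;> rcases C.sq_roots hs h3 h4 with b | b <;>
    simp only [b, e1, e2, a, mul_inv_rev, inv_of_two C.h2, inv_inv, ← e3, ← e4, mul_assoc _ h h, e5, mul_one,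
      true_or, or_true]

theorem even_conj (j i : ℤ) : t * x ^ (2 * j + i) = x ^ (-j) * (t * x ^ i) * (x ^ (-j))⁻¹ := by
  rw [conj_refl_by_rot C.tinv]; congr 2; ring

theorem D_ev (hd : d ∈ DD t x) : Ev t x d := by
  obtain ⟨k, rfl | rfl⟩ := C.mem_D.1 hd
  exacts [⟨-k, by simpa using conj_refl_by_rot C.tinv k 0⟩, ⟨k, by simpa using conj_refl_by_refl C.tinv k 0⟩]

variable (hy : y ∈ O) (ty : t • y = y)
include hy ty

theorem case0 (h0 : ∀ r ∈ AA S p t y, orderOf r ≠ 2) (b2 : orderOf b = 2) : H b := by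
  have key : ∀ s ∈ (S : Subgroup G), Ev t x s → s ∈ DD t x := fun s hs e => by
    obtain ⟨d, hd, r, hr, rfl⟩ := C.ev_dec hy ty hs e
    by_cases e : r = 1
    · simpa [e]
    obtain ⟨z, hz, z2⟩ := two_pow_zpowers (mem_AA.1 hr).1 e
    exact (h0 z (zpowers_le_of_mem hr hz) z2).elim
  obtain ⟨g, hg⟩ := thompson C.no2 S (M := DD t x) (fun s hs s' hs' e e' => key _ (mul_mem hs hs')
    (C.od_od hs ((C.ev_od hs).resolve_left (mt (key s hs) e)) ((C.ev_od hs').resolve_left (mt (key s' hs') e')))) b2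
  exact C.conj' g (C.D_H hg ((orderOf_conj g b).trans b2))

variable (hb : b ∈ AA S p t y) (b2 : orderOf b = 2)
include hb b2

theorem case1 : Commute b x := by
  obtain ⟨b1, bp, bt, -⟩ := mem_AA.1 hb
  have bb := mul_self_of_two b2
  by_contra e
  refine (mem_of_transfer C.no2 S (K := KK x) (fun s hs s' hs' => C.comm_K hs hs') b1 fun k g hk hg => ?_).elim
    (fun f => e (mul_inv_eq_iff_eq_mul.1 f)) fun f => e (mul_inv_eq_iff_eq_mul.1
      (f.trans (inv_eq_of_mul_eq_one_left (C.pP2 b1 bp bb bt (mem_zpowers x) f))))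
  rcases (Nat.dvd_prime Nat.prime_two).1 (b2 ▸ hk) with rfl | rfl
  swap
  · simp [sq, bb]
  rw [pow_one] at hg ⊢
  have v2 := (orderOf_conj g b).trans b2
  refine C.D_K (C.baer_ev hy ty hb b2 hg v2 (fun f => C.A_nH C.ot hy ty hb (C.conj' g f))
    ((C.ev_od hg).resolve_right fun f => e ?_))
  obtain ⟨⟨i, hi⟩, c, -⟩ := C.od_two (mul_self_of_two v2) f
  have h1 := C.conj_b hy ty hb b2 (mul_mem C.ot.mem hg)
  generalize t * (g * b * g⁻¹) = w at *
  have h2 := C.pP2 b1 bp bb bt h1 (by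
    rw [show b * (w * b * w⁻¹ * b⁻¹) * b⁻¹ = b * w * b * w⁻¹ * (b * b)⁻¹ by group, bb, ← inv_of_two b2]
    simp [mul_assoc, inv_of_two b2])
  refine comm_z (mul_inv_eq_iff_eq_mul.1 ?_ : Commute (w * w) b).symm (hi ▸ mem_zpowers_odd C.xS i)
  rw [show w * w * b * (w * w)⁻¹ = w * (w * b * w⁻¹ * b⁻¹) * w⁻¹ * (w * b * w⁻¹ * b⁻¹) * b by group,
    (comm_z c h1).eq, mul_inv_cancel_right, h2, one_mul]

theorem fp_t : Fp O b t := C.fix_all C.ot.hm hy ty (mem_AA.1 hb).2.2.1 (mem_AA.1 hb).2.2.2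

theorem fp_h : Fp O b h := C.fix_all C.hH C.pO C.hp (C.cen (mem_AA.1 hb).1) (mem_AA.1 hb).2.1

theorem case2 (f : Fp O b (t * x)) : False := by
  obtain ⟨b1, bp, bt, by'⟩ := mem_AA.1 hb
  have bx := C.case1 hy ty hb b2
  have nH := C.A_nH C.ot hy ty hb
  have fa : ∀ u ∈ (S : Subgroup G), H u → Fp O b u := fun u hu e => by
    by_cases e' : u • p = p
    · exact C.uq u hu e e' ▸ C.fp_h hy ty hb b2
    obtain ⟨k, rfl⟩ := C.all u ⟨hu, e, e'⟩
    obtain ⟨j, rfl | rfl⟩ := Int.even_or_odd' k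
    · rw [← add_zero (2 * j), C.even_conj]
      exact C.fp_comm (by simpa using C.fp_t hy ty hb b2) (bx.zpow_right (-j))
    · exact C.even_conj j 1 ▸ C.fp_comm (by simpa using f) (bx.zpow_right (-j))
  have cen : ∀ s ∈ (S : Subgroup G), Commute s b := fun s hs => by
    refine mul_inv_eq_iff_eq_mul.1 (mul_inv_eq_one.1 (by_contra fun e => C.nf t C.ot.mem C.ot.mv y hy ty
      (zpow_fix (mul_fix ?_ (inv_smul_eq_iff.2 by'.symm)) (C.hz (C.conj_b hy ty hb b2 hs) e))))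
    have o := C.out_conj C.ot (inv_mem hs)
    exact C.fp_conj (fa _ o.mem o.hm) s y hy (by simpa [mul_assoc] using ty)
  refine C.niso b b2 (Block.isIsolated_of_sylow S b1 fun g hg => by_contra fun e => ?_)
  have v2 := (orderOf_conj g b).trans b2
  have cv := (cen _ hg).symm
  have hu := ((C.h3 b2 v2 (Ne.symm e) cv).resolve_left nH).resolve_left fun f => nH (C.conj' g f)
  obtain ⟨u, uS, uH, u1, u2⟩ : ∃ u ∈ (S : Subgroup G), H u ∧ u ≠ b * (g * b * g⁻¹) ∧ Commute u (g * b * g⁻¹) := by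
    by_cases e : h = b * (g * b * g⁻¹)
    · refine ⟨t, C.ot.mem, C.ot.hm, fun f => C.ot.mv (f ▸ e ▸ C.hp), ?_⟩
      rw [show g * b * g⁻¹ = b⁻¹ * h by rw [e]; group]
      exact bt.symm.inv_right.mul_right (C.cen C.ot.mem)
    · exact ⟨h, C.hS, C.hH, e, (C.cen hg).symm⟩
  haveI := fact_two
  have u3 := C.conj uH g⁻¹
  obtain ⟨k, hk, k1⟩ := exists_conj_le_sylow_of_le S (H := centralizer {b}) (fun s hs => mem_cent.2 (cen s hs))
    (isPGroup_zpowers_two (C.two u3)) (zpowers_le_of_mem (mem_cent.2 (by simpa [mul_assoc] using commute_conj g⁻¹ u2)))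
  have f1 := C.fp_conj (C.fp_comm (fa _ (k1 _ (mem_zpowers _)) (C.conj u3 k)) (mem_cent.1 hk).symm.inv_right) g
  exact u1 (C.eq_of_fix uH hu fun z hz e => mul_fix (fa u uS uH z hz e) (f1 z hz (by simpa [mul_assoc] using e)))

variable (hz : z ∈ O) (tz : (t * x) • z = z) (bz : b • z ≠ z)
include hz tz bz

theorem x_sq : x * x ≠ 1 := fun e => by
  obtain ⟨b1, bp, bt, by'⟩ := mem_AA.1 hb
  obtain rfl := C.eqh (mem_zpowers x) (two_of_mul_self e C.x1)
  have ht := C.cen C.ot.mem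
  have ne : t ≠ x := fun f => C.ot.mv (f ▸ C.hp)
  have t2 := C.two C.ot.hm
  have h1 := card_filter_add_card_filter_not (s := fx O b) fun z => x • z = z
  have h2 := card_filter_add_card_filter_not (s := {z ∈ fx O b | ¬ x • z = z}) fun z => t • z = z
  have h3 := card_dvd_of_free (closure {t, x}) {z ∈ {z ∈ fx O b | ¬ x • z = z} | ¬ t • z = z} (fun k hk w hw => by
    have c : ∀ {a}, Commute a t → Commute a x → Commute k a := fun a b => (comm_D a b hk).symm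
    simp only [mem_filter] at hw ⊢
    exact ⟨⟨⟨C.inv _ _ hw.1.1.1, fix_comm (c bt (C.cen b1)) hw.1.1.2⟩, fun f => hw.1.2 (by
      simpa using fix_comm (c ht.symm (Commute.refl x)).inv_left f)⟩, fun f => hw.2 (by
      simpa using fix_comm (c (Commute.refl t) ht).inv_left f)⟩) fun k hk w hw f => by
    simp only [mem_filter] at hw
    rcases (mem_closure_klein t2 C.h2 ht k).1 hk with rfl | rfl | rfl | rfl
    exacts [rfl, (hw.2 f).elim, (hw.1.2 f).elim,
      (bz (C.fix_all C.os.hm hw.1.1.1 f (bt.mul_right (C.cen b1)) hw.1.1.2 z hz tz)).elim]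
  rw [(isKleinFour_closure t2 C.h2 ne ht).card_four] at h3
  rw [show {z ∈ fx O b | x • z = z} = fx O x from ?_, C.fx2 C.hH] at h1
  rw [show {z ∈ {z ∈ fx O b | ¬ x • z = z} | t • z = z} = fx O t from ?_, C.fx2 C.ot.hm] at h2
  · have := C.par b (mul_self_of_two b2)
    omega
  all_goals ext w; simp only [mem_filter]
  · exact ⟨fun a => ⟨a.1.1.1, a.2⟩, fun a => ⟨⟨⟨a.1, C.fp_t hy ty hb b2 w a.1 a.2⟩, C.nf t C.ot.mem C.ot.mv w a.1 a.2⟩, a.2⟩⟩
  · exact ⟨fun a => ⟨a.1.1, a.2⟩, fun a => ⟨⟨a.1, C.fp_h hy ty hb b2 w a.1 a.2⟩, a.2⟩⟩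

theorem odd_ne_h (i : ℤ) : x ^ (2 * i + 1) ≠ h := fun e => C.x_sq hy ty hb b2 hz tz bz
  (eq_one_odd (mul_mem C.xS C.xS) (i := i) (by rw [(Commute.refl x).mul_zpow, e, mul_self_of_two C.h2]))

theorem od_b (hw : w ∈ (S : Subgroup G)) (h1 : Od t x w) : w * b * w⁻¹ = h * b := by
  have bx := C.case1 hy ty hb b2
  have h2 := C.conj_b hy ty hb b2 hw
  have bb := mul_self_of_two b2
  rcases C.eqh' h2 (by
    have := (comm_z bx h2).symm.mul_pow 2
    rwa [inv_mul_cancel_right, conj_pow, sq_of_two b2, mul_one, mul_inv_cancel, mul_one, sq, eq_comm] at this)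
    with e | e
  · obtain ⟨j, hj⟩ := h1
    have f := C.fp_comm (C.fp_comm (C.fp_t hy ty hb b2) (mul_inv_eq_iff_eq_mul.1 (mul_inv_eq_one.1 e) :
      Commute w b).symm) (bx.zpow_right j)
    rw [hj, C.even_conj] at f
    exact (bz (f z hz (by simpa [mul_assoc] using tz))).elim
  · exact mul_inv_eq_iff_eq_mul.1 e

theorem not_K (hr : r ∈ AA S p t y) (rr : r * r = b) : r ∉ KK x := fun hK => by
  obtain ⟨b1, bp, bt, by'⟩ := mem_AA.1 hb
  obtain ⟨r1, rp, rt, -⟩ := mem_AA.1 hr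
  have bx := C.case1 hy ty hb b2
  have hb' := (C.dec C.os hz tz b1 bp (bt.mul_right bx)).resolve_left fun e => bz (mem_AA.1 e).2.2.2
  obtain ⟨e, he⟩ := C.nx r1
  have cm : Commute (x ^ e * r) (t * x) := mul_inv_eq_iff_eq_mul.1 (by
    rw [show x ^ e * r * (t * x) * (x ^ e * r)⁻¹ = x ^ e * (r * t * r⁻¹ * (r * x * r⁻¹)) * (x ^ e)⁻¹ by group, he,
      rt.eq, mul_inv_cancel_right, conj_refl_by_rot C.tinv]
    simp)
  obtain ⟨d, hd, h1⟩ : ∃ d ∈ zpowers x, d * r ∈ AA S p (t * x) z :=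
    (C.dec C.os hz tz (mul_mem (zpow_mem C.xS e) r1) (mul_fix (zpow_fix C.xp ⟨e, rfl⟩) rp) cm).elim
      (fun f => ⟨_, ⟨e, rfl⟩, f⟩) fun f => ⟨h * x ^ e, mul_mem C.hx ⟨e, rfl⟩, mul_assoc h _ r ▸ f⟩
  have h2 := C.A_z C.os hz tz (mul_mem (mul_mem h1 h1) (inv_mem hb')) (by
    rw [← rr, show d * r * (d * r) * (h * (r * r))⁻¹ = d * (r * d * r⁻¹) * h⁻¹ by group]
    exact mul_mem (mul_mem hd (C.nz r1 hd)) (inv_mem C.hx))
  rw [← rr, show d * r * (d * r) * (h * (r * r))⁻¹ = d * (r * d * r⁻¹) * h⁻¹ by group, mul_inv_eq_one] at h2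
  obtain ⟨k, rfl⟩ := mem_zpowers_iff.1 hd
  refine ne_one_of_two C.h2 (h2 ▸ ?_)
  rcases hK with f | f
  · have rx : Commute r x := mul_inv_eq_iff_eq_mul.1 f
    have c1 : Commute (x ^ k) t := by
      simpa using (((mem_AA.1 h1).2.2.1.mul_left (rt.mul_right rx).inv_left).mul_right
        (by simp : Commute (x ^ k * r * r⁻¹) x⁻¹))
    rw [(rx.zpow_right k).eq, mul_inv_cancel_right]
    exact eq_inv_iff_mul_eq_one.1 (by rw [← conj_zpow_of_inv C.tinv, ← c1.eq, mul_inv_cancel_right])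
  · rw [conj_zpow_of_inv f, mul_inv_cancel]

theorem od_sq (hw : w ∈ (S : Subgroup G)) (h1 : Od t x w) (hd : d ∈ DD t x) (h2 : w * d * w⁻¹ = d * h) :
    d ∈ zpowers x := by
  obtain ⟨k, rfl | rfl⟩ := C.mem_D.1 hd
  · exact ⟨k, rfl⟩
  obtain ⟨i, hi⟩ := h1
  obtain ⟨e, he⟩ := C.nx hw
  refine (C.odd_ne_h hy ty hb b2 hz tz bz (i + e * k) ?_).elim
  rw [show w * (t * x ^ k) * w⁻¹ = w * t * w⁻¹ * (w * x * w⁻¹) ^ k by rw [conj_zpow]; group, hi, he, mul_assoc,
    mul_assoc, mul_left_cancel_iff, ← (C.cen (zpow_mem C.xS k)).symm.eq, ← mul_inv_eq_iff_eq_mul] at h2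
  rw [← h2]
  group

theorem case3b (hr : r ∈ AA S p t y) : r * r ≠ b := fun rr => by
  obtain ⟨b1, bp, bt, by'⟩ := mem_AA.1 hb
  have r1 := (mem_AA.1 hr).1
  have bx := C.case1 hy ty hb b2
  have bK : b ∈ KK x := Or.inl (mul_inv_eq_iff_eq_mul.2 bx)
  have nH := C.A_nH C.ot hy ty hb
  have r4 : r ^ 4 = 1 := by rw [show 4 = 2 * 2 from rfl, pow_mul, sq r, rr, sq_of_two b2]
  refine C.not_K hy ty hb b2 hz tz bz hr rr (mem_of_transfer C.no2 S (fun s hs s' hs' => C.comm_K hs hs') r1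
    fun k g hk hg => ?_)
  have v2 := (orderOf_conj g b).trans b2
  have vH : ¬ H (g * b * g⁻¹) := fun f => nH (C.conj' g f)
  obtain ⟨j, hj, rfl⟩ := (Nat.dvd_prime_pow Nat.prime_two).1
    (hk.trans (orderOf_dvd_of_pow_eq_one r4) : k ∣ 2 ^ 2)
  interval_cases j
  · rw [pow_zero, pow_one] at hg ⊢
    have e : g * r * g⁻¹ * (g * r * g⁻¹) = g * b * g⁻¹ := by rw [← rr]; group
    generalize g * r * g⁻¹ = w at *
    generalize g * b * g⁻¹ = v at *
    subst e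
    rcases C.ev_od hg with f | f
    · obtain ⟨d, hd, s, hs, rfl⟩ := C.ev_dec hy ty hg f
      have s1 := (mem_AA.1 hs).1
      have h1 := C.sqD hd s1
      have h2 : s * s = b := C.A_uq C.ot hy ty (mul_mem hs hs) hb (two_of_mul_self (C.A_D hy ty
        (mul_mem (mul_mem hs hs) (mul_mem hs hs)) (by
          have := C.sqD (inv_mem h1) (mul_mem hg hg)
          rwa [mul_self_of_two v2, inv_one, mul_one, mul_inv_rev, inv_inv, inv_mul_cancel_right] at this))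
        fun e => vH (C.D_H (by simpa [e] using h1) v2)) b2
      rw [mul_assoc]
      exact mul_mem (C.D_K hd) (C.mul_K s1 (inv_mem r1) (h2 ▸ bx) (C.not_K hy ty hb b2 hz tz bz hs h2)
        (by rw [← mul_inv_rev, rr]; exact bx.inv_left) (mt (inv_mem_iff.1) (C.not_K hy ty hb b2 hz tz bz hr rr)))
    · have h1 := C.baer_ev hy ty hb b2 (mul_mem hg hg) v2 vH (C.od_od hg f f)
      have h2 : w * (w * w * b⁻¹) * w⁻¹ = w * w * b⁻¹ * h := by
        rw [show w * (w * w * b⁻¹) * w⁻¹ = w * w * (w * b * w⁻¹)⁻¹ by group, C.od_b hy ty hb b2 hz tz bz hg f,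
          mul_inv_rev, inv_of_two C.h2, mul_assoc (w * w)]
      have h3 := C.od_sq hy ty hb b2 hz tz bz hg f h1 h2
      refine (ne_one_of_two C.h2 ?_).elim
      rcases C.eqh' h3 (by rw [← sq, ((comm_z bx h3).symm.mul_left (Commute.refl b) |> fun c => by
        simpa using c.inv_right : Commute (w * w) b⁻¹).mul_pow, sq_of_two v2, inv_pow, sq_of_two b2]; simp) with e | e
      · simpa [e] using h2.symm
      · rw [e, (C.cen hg).eq, mul_inv_cancel_right, mul_self_of_two C.h2] at h2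
        exact h2
  · rw [pow_one, sq, rr] at hg ⊢
    rcases C.ev_od hg with f | f
    exacts [C.D_K (C.baer_ev hy ty hb b2 hg v2 vH f),
      mul_mem (Or.inr (C.od_two (mul_self_of_two v2) f).2.2) (inv_mem bK)]
  · simp [r4]

theorem case3c : False := by
  obtain ⟨b1, bp, bt, by'⟩ := mem_AA.1 hb
  have bx := C.case1 hy ty hb b2
  have bb := mul_self_of_two b2
  have nH := C.A_nH C.ot hy ty hb
  have bD : b ∉ DD t x := fun e => nH (C.D_H e b2)
  have ev : ∀ s ∈ (S : Subgroup G), Ev t x s → s ∈ DD t x ∨ s * b⁻¹ ∈ DD t x := fun s hs e => by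
    obtain ⟨d, hd, r, hr, rfl⟩ := C.ev_dec hy ty hs e
    by_cases e : r = 1
    · exact Or.inl (by simpa [e])
    by_cases e' : r * r = 1
    · exact Or.inr (by simpa [C.A_uq C.ot hy ty hr hb (two_of_mul_self e' e) b2])
    obtain ⟨_, ⟨k, rfl⟩, z2⟩ := two_pow_zpowers (mem_AA.1 (mul_mem hr hr)).1 e'
    exact (C.case3b hy ty hb b2 hz tz bz (zpow_mem hr k) ((Commute.refl r).mul_zpow k ▸
      C.A_uq C.ot hy ty (zpow_mem (mul_mem hr hr) k) hb z2 b2)).elim
  have c1 : ∀ s ∈ (S : Subgroup G), ∀ s' ∈ (S : Subgroup G), Ev t x s' → s * s' * s⁻¹ * s'⁻¹ ∈ DD t x :=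
    fun s hs s' hs' e => (ev s' hs' e).elim (fun f => mul_mem (C.nD hs f) (inv_mem f)) fun f => by
      simpa [mul_assoc] using mul_mem (mul_mem (C.nD hs f) (z_mem (C.conj_b hy ty hb b2 hs))) (inv_mem f)
  have c2 : ∀ s ∈ (S : Subgroup G), ∀ s' ∈ (S : Subgroup G), s * s' * s⁻¹ * s'⁻¹ ∈ DD t x := fun s hs s' hs' => by
    rcases C.ev_od hs' with e | e
    · exact c1 s hs s' hs' e
    rcases C.ev_od hs with f | f
    · simpa [mul_assoc] using inv_mem (c1 s' hs' s hs f)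
    · simpa [mul_assoc] using c1 s hs _ (mul_mem hs' (inv_mem hs)) (C.od_od hs' e (C.od_inv hs f))
  have key : ∀ M : Subgroup G, DD t x ≤ M → (∀ v ∈ (S : Subgroup G), v * v = 1 → Od t x v → v * b⁻¹ ∈ M) → b ∈ M :=
    fun M h1 h2 => mem_of_transfer C.no2 S (fun s hs s' hs' => h1 (c2 s hs s' hs')) b1 fun k g hk hg => by
      rcases (Nat.dvd_prime Nat.prime_two).1 (b2 ▸ hk) with rfl | rfl
      swap
      · simp [sq, bb]
      rw [pow_one] at hg ⊢
      have v2 := (orderOf_conj g b).trans b2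
      exact (C.ev_od hg).elim (fun f => h1 (C.baer_ev hy ty hb b2 hg v2 (fun f => nH (C.conj' g f)) f))
        (h2 _ hg (mul_self_of_two v2))
  by_cases e : ∃ u ∈ (S : Subgroup G), u * u = 1 ∧ Od t x u
  swap
  · exact bD (key _ le_rfl fun v hv v2 f => (e ⟨v, hv, v2, f⟩).elim)
  obtain ⟨u, hu, u2, f⟩ := e
  have ub := C.od_b hy ty hb b2 hz tz bz hu f
  have ui := inv_eq_of_mul_eq_one_left u2
  obtain ⟨M, hM⟩ := exists_two_cosets (D := DD t x) (w := u * b) (fun d hd => C.nD (mul_mem hu b1) hd) (by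
    rw [show u * b * (u * b) = u * b * u⁻¹ * b by rw [ui]; group, ub, mul_assoc, bb, mul_one]
    exact z_mem C.hx)
  refine ((hM b).1 (key M (fun d hd => (hM d).2 (Or.inl hd)) fun v hv v2 f' => (hM _).2 (Or.inr ?_))).elim bD
    fun e => C.not_ev f (C.D_ev (by simpa using e))
  rcases ev _ (mul_mem hv (inv_mem hu)) (C.od_od hv f' (C.od_inv hu f)) with e | e
  · simpa [mul_assoc, ← mul_assoc b⁻¹ b⁻¹, ← mul_inv_rev, bb] using e
  obtain ⟨d, rfl⟩ : ∃ d, v = d * b * u := ⟨v * u⁻¹ * b⁻¹, by group⟩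
  have hd : d ∈ DD t x := by simpa using e
  have h1 : d * (u * d * u⁻¹) * h = 1 := by
    rw [← v2, show d * b * u * (d * b * u) = d * b * (u * d * u⁻¹) * (u * b * u⁻¹) * (u * u) by group, u2, ub,
      mul_assoc d b, (comm_D bt bx (C.nD hu hd)).eq, ← (C.cen b1).eq, mul_one, ← mul_assoc d _ b,
      mul_assoc _ b (b * h), ← mul_assoc b b, bb, one_mul]
  have h2 : d ∈ zpowers x := by
    obtain ⟨k, rfl | rfl⟩ := C.mem_D.1 hd
    · exact ⟨k, rfl⟩
    refine C.od_sq hy ty hb b2 hz tz bz hu f hd (mul_left_cancel (a := t * x ^ k) ?_)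
    rw [← mul_assoc (t * x ^ k) (t * x ^ k), mul_self_of_two (C.two (C.opow k).hm), one_mul,
      eq_inv_of_mul_eq_one_left h1, inv_of_two C.h2]
  obtain ⟨k, rfl⟩ := mem_zpowers_iff.1 h2
  rw [conj_zpow_of_inv (C.od_two u2 f).2.2, mul_inv_cancel, one_mul] at h1
  exact (ne_one_of_two C.h2 h1).elim

end Dx

theorem BA.all (B : BA O H) (b2 : orderOf b = 2) : H b := by
  obtain ⟨S⟩ := (inferInstance : Nonempty (Sylow 2 G))
  obtain ⟨p, h, C⟩ := B.exists_cx b2 S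
  obtain ⟨t, x, C⟩ := C.exists_dx
  obtain ⟨y, hy⟩ := card_pos.1 (show 0 < #(fx O t) by rw [C.fx2 C.ot.hm]; omega)
  obtain ⟨hy, ty⟩ := mem_filter.1 hy
  refine C.case0 hy ty (fun r hr r2 => C.case2 hy ty hr r2 fun z hz tz => ?_) b2
  by_contra e
  exact C.case3c hy ty hr r2 hz tz e

end Cfsg.Lib.Oval
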