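import Cfsg.Agent.Lib.Oval.Pl
import Cfsg.Agent.Lib.Invol.Transfer2
import Cfsg.Agent.Lib.Invol.Classes

/-! Involutions preserving an oval in a plane of odd order. -/

set_option autoImplicit false
set_option linter.unusedSectionVars false
set_option linter.style.haveILetI false

namespace Cfsg.Lib.Oval

open Finset Cfsg.Lib.Invol
open scoped Classical

variable {G P L : Type*} [Group G] [MulAction G P] [MulAction G L] [Fintype P] [Fintype L]

structure Ov (G : Type*) {P L : Type*} [Group G] [MulAction G P] [MulAction G L] [Fintype P] [Fintype L]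
    (I : P → L → Prop) (n : ℕ) (O : Finset P) : Prop extends Pl G I n univ univ where
  odd : Odd n
  two : 2 ≤ n
  card : #O = n + 1
  arc : ∀ {l p q r}, p ∈ O → q ∈ O → r ∈ O → I p l → I q l → I r l → p = q ∨ p = r ∨ q = r
  inv : ∀ (g : G), ∀ p ∈ O, g • p ∈ O
  ft : ∀ g : G, (∀ p : P, g • p = p) → g = 1

/-- fixed points -/
noncomputable abbrev fx {X : Type*} [MulAction G X] (O : Finset X) (g : G) : Finset X := {p ∈ O | g • p = p}

/-- global homology -/
abbrev HM (I : P → L → Prop) (t : G) (C : P) (a : L) : Prop := Hm I t univ univ C a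

variable {I : P → L → Prop} {n : ℕ} {O : Finset P} {t s z g b : G} {p q X Y C D : P} {l m a k : L}

theorem col (h : t * t = 1) : Col t (univ : Finset P) (univ : Finset L) := ⟨h, by simp, by simp⟩

theorem HM.pp (H : HM I t C a) : t • p = p ↔ I p a ∨ p = C := H.fp p (mem_univ _)
theorem HM.ll (H : HM I t C a) : t • l = l ↔ I C l ∨ l = a := H.fl l (mem_univ _)

theorem conj_smul_iff {X : Type*} [MulAction G X] {x : X} : (g * t * g⁻¹) • x = x ↔ t • g⁻¹ • x = g⁻¹ • x := by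
  rw [mul_smul, mul_smul, smul_eq_iff_eq_inv_smul]

theorem fix_comm {X : Type*} [MulAction G X] {x : X} (h : Commute g t) (hx : t • x = x) : t • g • x = g • x := by
  rw [smul_smul, ← h.eq, mul_smul, hx]

namespace Ov

variable (h : Ov G I n O)
include h

theorem three : 3 ≤ n := by have := h.two; obtain ⟨k, hk⟩ := h.odd; omega

theorem jn (e : p ≠ q) : ∃ l, I p l ∧ I q l := (h.join p (mem_univ _) q (mem_univ _) e).imp fun _ => And.right

theorem mt (e : l ≠ m) : ∃ p, I p l ∧ I p m := (h.meet l (mem_univ _) m (mem_univ _) e).imp fun _ => And.right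

theorem le_two (l : L) : #{p ∈ O | I p l} ≤ 2 := by
  by_contra! e
  obtain ⟨p, hp, q, hq, r, hr, h1, h2, h3⟩ := two_lt_card.1 e
  simp only [mem_filter] at hp hq hr
  rcases h.arc hp.1 hq.1 hr.1 hp.2 hq.2 hr.2 with e | e | e <;> contradiction

theorem tangent (hX : X ∈ O) : ∃ τ, I X τ ∧ (∀ Y ∈ O, I Y τ → Y = X) ∧
    ∀ l, I X l → (∀ Y ∈ O, I Y l → Y = X) → l = τ := by
  have e1 := card_filter_add_card_filter_not (s := {l ∈ univ | I X l}) fun l => ∀ Y ∈ O, I Y l → Y = X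
  rw [h.cp X (mem_univ _), ← card_eq_of_rel I (s := O.erase X) (t := filter (fun l => ¬ _) _)
    (fun p hp => ?_) (fun m hm => ?_)
    (fun p hp m hm k hk a b => ?_) fun m hm p hp q hq a b => ?_, card_erase_of_mem hX, h.card] at e1
  · obtain ⟨τ, hτ⟩ := card_eq_one.1 (show _ = 1 by simpa [add_comm] using e1)
    have := eq_singleton_iff_unique_mem.1 hτ
    simp only [mem_filter, mem_univ, true_and, and_imp] at this
    exact ⟨τ, this.1.1, this.1.2, this.2⟩
  all_goals simp only [mem_filter, mem_univ, true_and, mem_erase, not_forall] at *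
  · obtain ⟨l, h1, h2⟩ := h.jn hp.1
    exact ⟨l, ⟨h2, p, hp.2, h1, hp.1⟩, h1⟩
  · obtain ⟨-, Y, h1, h2, h3⟩ := hm
    exact ⟨Y, ⟨h3, h1⟩, h2⟩
  · exact (h.uniq a hm.1 b hk.1).resolve_left hp.1
  · exact ((h.arc hX hp.2 hq.2 hm.1 a b).resolve_left hp.1.symm).resolve_left hq.1.symm

theorem fix_tan (hX : X ∈ O) (hg : g • X = X) {τ : L} (h1 : I X τ) (h2 : ∀ Y ∈ O, I Y τ → Y = X) : g • τ = τ := by
  obtain ⟨σ, -, -, h3⟩ := h.tangent hX
  rw [h3 τ h1 h2]
  refine h3 _ (h3 τ h1 h2 ▸ h.inc_fix hg h1) fun Y hY e => ?_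
  rw [← h3 τ h1 h2, ← smul_inv_smul g Y, h.inc] at e
  rw [← hg, ← h2 _ (h.inv _ _ hY) e, smul_inv_smul]

theorem fix_sec (hX : X ∈ O) (hY : Y ∈ O) (hg : g • X = X) (hl : g • l = l) (h1 : I X l) (h2 : I Y l) :
    g • Y = Y := by
  rcases h.arc hX hY (h.inv g Y hY) h1 h2 (h.fix_inc hl h2) with rfl | e | e
  exacts [hg, by rw [← hg] at e; rw [← smul_left_cancel g e, hg], e.symm]

/-- fixed points on the oval against fixed lines through one of them -/
theorem cnt_tan (hX : X ∈ O) (hg : g • X = X) (hs : s • X = X) :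
    #(fx (fx O g) s) = #{l ∈ fx (fx (univ : Finset L) g) s | I X l} := by
  obtain ⟨τ, t1, t2, t3⟩ := h.tangent hX
  refine card_eq_of_rel (fun Y l => I Y l ∧ (Y = X → l = τ)) (fun p hp => ?_) (fun m hm => ?_)
    (fun p hp m hm k hk a b => ?_) fun m hm p hp q hq a b => ?_ <;>
    simp only [mem_filter, mem_univ, true_and] at *
  · by_cases e : p = X
    · exact ⟨τ, ⟨⟨h.fix_tan hX hg t1 t2, h.fix_tan hX hs t1 t2⟩, t1⟩, e ▸ t1, fun _ => rfl⟩
    obtain ⟨l, h1, h2⟩ := h.jn e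
    exact ⟨l, ⟨⟨h.fixL hp.1.2 hg e h1 h2, h.fixL hp.2 hs e h1 h2⟩, h2⟩, h1, fun e' => (e e').elim⟩
  · by_cases e : ∀ Y ∈ O, I Y m → Y = X
    · exact ⟨X, ⟨⟨hX, hg⟩, hs⟩, hm.2, fun _ => t3 m hm.2 e⟩
    push Not at e
    obtain ⟨Y, h1, h2, h3⟩ := e
    exact ⟨Y, ⟨⟨h1, h.fix_sec hX h1 hg hm.1.1 hm.2 h2⟩, h.fix_sec hX h1 hs hm.1.2 hm.2 h2⟩, h2,
      fun e => (h3 e).elim⟩
  · by_cases e : p = X
    exacts [(a.2 e).trans (b.2 e).symm, (h.uniq a.1 hm.2 b.1 hk.2).resolve_left e]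
  · rcases h.arc hX hp.1.1 hq.1.1 hm.2 a.1 b.1 with e | e | e
    exacts [e ▸ (t2 q hq.1.1 (a.2 e.symm ▸ b.1)).symm, e ▸ t2 p hp.1.1 (b.2 e.symm ▸ a.1), e]

theorem hm_fx (H : HM I t C a) : #(fx O t) ≤ 3 :=
  (card_le_card (t := insert C {p ∈ O | I p a}) fun p hp => by
    simp only [mem_filter, mem_insert, H.pp] at hp ⊢
    tauto).trans ((card_insert_le _ _).trans (by have := h.le_two a; omega))

theorem nmem (H : HM I t C a) : C ∉ O := fun hC => by
  have := h.hm_fx H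
  rw [fx, filter_true_of_mem fun p hp => ?_, h.card] at this
  · have := h.three; omega
  by_cases e : C = p
  · exact H.pp.2 (Or.inr e.symm)
  obtain ⟨l, h1, h2⟩ := h.jn e
  exact h.fix_sec hC hp (H.pp.2 (Or.inr rfl)) (H.ll.2 (Or.inl h1)) h1 h2

theorem hm_iff (H : HM I t C a) (hp : p ∈ O) : t • p = p ↔ I p a :=
  H.pp.trans (or_iff_left fun e => h.nmem H (e ▸ hp))

theorem hm_le (H : HM I t C a) : #(fx O t) ≤ 2 := by
  rw [fx, filter_congr fun p hp => h.hm_iff H hp]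
  exact h.le_two a

theorem hm_conj (H : HM I t C a) (g : G) : HM I (g * t * g⁻¹) (g • C) (g • a) :=
  ⟨mem_univ _, mem_univ _, by rw [h.inc]; exact H.ni, fun p _ => by
    rw [conj_smul_iff, H.pp, ← h.inc g, smul_inv_smul, inv_smul_eq_iff], fun l _ => by
    rw [conj_smul_iff, H.ll, ← h.inc g, smul_inv_smul, inv_smul_eq_iff]⟩

theorem hm_uniq (H : HM I t C a) (K : HM I t D k) : C = D ∧ a = k := by
  have e : C = D := by
    by_contra e
    obtain ⟨l, h1, h2⟩ := h.jn e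
    obtain ⟨m, -, h3, h4, h5⟩ := h.dual.exists_ne h.two (mem_univ D) l a
    exact h4 ((h.uniq ((H.ll.1 (K.ll.2 (Or.inl h3))).resolve_right h5) h3 h1 h2).resolve_left e)
  exact ⟨e, (K.ll.1 (H.ll.2 (Or.inr rfl))).resolve_left (e ▸ H.ni)⟩

theorem hm_comm (H : HM I t C a) (c : Commute g t) : g • C = C ∧ g • a = a :=
  h.hm_uniq (by simpa [c.eq] using h.hm_conj H g) H

theorem hm_agree (H : HM I t C a) (K : HM I s C k) (hp : p ∈ O) : s • p = t • p := by
  have key : ∀ {t s : G} {a k : L}, HM I t C a → HM I s C k → s • p = p → t • p = p := fun {t s a k} H K e => by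
    obtain ⟨l, h1, h2⟩ := h.jn fun e : C = p => h.nmem H (e ▸ hp)
    have h3 := h.fix_inc (H.ll.2 (Or.inl h1)) h2
    by_contra e'
    have h4 := h.fix_sec hp (h.inv t p hp) e (K.ll.2 (Or.inl h1)) h2 h3
    exact K.ni ((h.uniq h2 h3 ((h.hm_iff K hp).1 e) ((h.hm_iff K (h.inv t p hp)).1 h4)).resolve_left
      (Ne.symm e') ▸ h1)
  obtain ⟨l, h1, h2⟩ := h.jn fun e : C = p => h.nmem H (e ▸ hp)
  rcases h.arc hp (h.inv s p hp) (h.inv t p hp) h2 (h.fix_inc (K.ll.2 (Or.inl h1)) h2)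
    (h.fix_inc (H.ll.2 (Or.inl h1)) h2) with e | e | e
  exacts [e.symm.trans (key H K e.symm).symm, (key K H e.symm).trans e, e]

variable [Finite G]

theorem tri (ht : orderOf t = 2) : (∃ C a, HM I t C a) ∨
    ∃ m, n = m ^ 2 ∧ Pl G I m (fx univ t) (fx univ t) ∧ (fx O t = ∅ ∨ #(fx O t) = m + 1) := by
  obtain ⟨X, hX⟩ := not_forall.1 (_root_.mt (h.ft t) (ne_one_of_two ht))
  refine (h.trich (col (mul_self_of_two ht)) h.odd h.two (mem_univ X) hX).imp id fun ⟨m, h1, h2, _⟩ =>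
    ⟨m, h1, h2, (eq_empty_or_nonempty _).imp id fun ⟨Y, hY⟩ => ?_⟩
  have := h.cnt_tan (mem_filter.1 hY).1 (mem_filter.1 hY).2 (mem_filter.1 hY).2
  simp only [fx, filter_filter, and_self] at this
  rw [this, ← h2.cp Y (by simpa using (mem_filter.1 hY).2), filter_filter]

theorem not_fix (ht : orderOf t = 2) : ¬ ∀ p ∈ O, t • p = p := fun e => by
  have e1 : #(fx O t) = n + 1 := by rw [fx, filter_true_of_mem e, h.card]
  have := h.three
  rcases h.tri ht with ⟨C, a, H⟩ | ⟨m, h1, -, h2 | h2⟩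
  · have := h.hm_le H; omega
  · simp [h2] at e1
  · nlinarith

theorem faith [IsSimpleGroup G] (ht : orderOf t = 2) (hg : ∀ p ∈ O, g • p = p) : g = 1 := by
  let K : Subgroup G := ⨅ p ∈ O, MulAction.stabilizer G p
  have hK : ∀ {g}, g ∈ K ↔ ∀ p ∈ O, g • p = p := by simp [K, Subgroup.mem_iInf]
  have : K.Normal := ⟨fun x hx g => hK.2 fun p hp => conj_smul_iff.2 (hK.1 hx _ (h.inv _ _ hp))⟩
  rcases this.eq_bot_or_eq_top with e | e
  exacts [Subgroup.mem_bot.1 (e ▸ hK.2 hg), (h.not_fix ht (hK.1 (e ▸ Subgroup.mem_top t))).elim]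

theorem par (hG : ∀ K : Subgroup G, K.index ≠ 2) (ht : t * t = 1) : ∃ k, n + 1 = #(fx O t) + 4 * k := by
  letI : MulAction G {x // x ∈ O} :=
    { smul := fun x y => ⟨x • y.1, h.inv x y y.2⟩
      one_smul := fun y => Subtype.ext (one_smul G y.1)
      mul_smul := fun x y z => Subtype.ext (mul_smul x y z.1) }
  have e : Equiv.Perm.sign (MulAction.toPermHom G {x // x ∈ O} t) = 1 := by
    by_contra e
    obtain ⟨K, hK, -⟩ := exists_index_two_of_sign (Equiv.Perm.sign.comp (MulAction.toPermHom G {x // x ∈ O})) e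
    exact hG K hK
  rw [Equiv.Perm.sign_of_pow_two_eq_one (by rw [← map_pow, sq, ht, map_one]),
    neg_one_pow_eq_one_iff_even (by decide), Fintype.card_coe, h.card] at e
  have e1 : Fintype.card (Function.fixedPoints (MulAction.toPermHom G {x // x ∈ O} t)) = #(fx O t) := by
    rw [Fintype.card_subtype]
    refine card_bij (fun x _ => x.1) (fun x hx => ?_) (fun x _ y _ => Subtype.ext) fun x hx => ?_
    · exact mem_filter.2 ⟨x.2, congrArg Subtype.val (mem_filter.1 hx).2⟩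
    · exact ⟨⟨x, (mem_filter.1 hx).1⟩, mem_filter.2 ⟨mem_univ _, Subtype.ext (mem_filter.1 hx).2⟩, rfl⟩
  obtain ⟨k, hk⟩ := e
  by_cases h1 : t = 1
  · exact ⟨0, by simp [h1, fx, h.card]⟩
  have ot := two_of_mul_self ht h1
  obtain ⟨j, hj⟩ := dvd_of_prime (y := t) (ot ▸ Nat.prime_two) O (h.inv t)
  rw [h.card, ot] at hj
  exact ⟨k, by rw [e1] at hk; unfold fx at *; omega⟩

end Ov

end Cfsg.Lib.Oval
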