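import Cfsg.Agent.Lib.Oval.Geo

/-! Homologies and Baer involutions preserving an oval. -/

set_option autoImplicit false
set_option linter.unusedSectionVars false
set_option linter.style.haveILetI false

namespace Cfsg.Lib.Oval

open Finset Cfsg.Lib.Invol
open scoped Classical

variable {G P L : Type*} [Group G] [MulAction G P] [MulAction G L] [Fintype P] [Fintype L]

structure Ow (G : Type*) {P L : Type*} [Group G] [MulAction G P] [MulAction G L] [Fintype P] [Fintype L]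
    (I : P → L → Prop) (n : ℕ) (O : Finset P) : Prop extends Ov G I n O where
  fO : ∀ g : G, (∀ p ∈ O, g • p = p) → g = 1
  par : ∀ t : G, t * t = 1 → ∃ k, n + 1 = #(fx O t) + 4 * k

/-- involutory homologies -/
def IsH (I : P → L → Prop) (t : G) : Prop := orderOf t = 2 ∧ ∃ C a, HM I t C a

variable {I : P → L → Prop} {n : ℕ} {O : Finset P} {t s u z g b c w : G} {p q X Y C D : P} {l m a k : L}

theorem mul_fix {X : Type*} [MulAction G X] {x : X} (h : t • x = x) (h' : s • x = x) : (t * s) • x = x := by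
  rw [mul_smul, h', h]

theorem fix_of_mul {X : Type*} [MulAction G X] {x : X} (h : s • x = x) (h' : (t * s) • x = x) : t • x = x := by
  rwa [mul_smul, h] at h'

theorem fix_of_mul' {X : Type*} [MulAction G X] {x : X} (h : t • x = x) (h' : (t * s) • x = x) : s • x = x :=
  smul_left_cancel t (by rwa [h, smul_smul])

theorem sq_aux (e : ℕ) : 3 * e ≤ e * e + 2 := by
  rcases Nat.lt_or_ge e 2 with h | h
  · interval_cases e <;> simp
  · nlinarith

theorem sq_aux2 {j : ℕ} (h : 5 ≤ j ^ 2) (h1 : j ^ 2 ≤ 2 * j + 1) : False := by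
  have : 3 ≤ j := by nlinarith
  nlinarith

namespace Ow

variable [Finite G] (h : Ow G I n O)
include h

theorem same (H : HM I t C a) (K : HM I s C k) : s = t :=
  (inv_mul_eq_one.1 (h.fO _ fun p hp => by rw [mul_smul, h.hm_agree H K hp, inv_smul_smul])).symm

theorem conj (H : IsH I t) (g : G) : IsH I (g * t * g⁻¹) :=
  let ⟨h1, _, _, H⟩ := H; ⟨by rwa [orderOf_conj], _, _, h.hm_conj H g⟩

theorem cen_axis (H : HM I t C a) (K : HM I s D k) (c : Commute s t) (e : s ≠ t) : I D a :=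
  (H.pp.1 (h.hm_comm K c.symm).1).resolve_right fun e' => e (h.same H (e' ▸ K))

theorem axis_ne (H : HM I t C a) (K : HM I s D k) (c : Commute s t) (e : s ≠ t) : a ≠ k :=
  fun e' => K.ni (e' ▸ h.cen_axis H K c e)

theorem prod (ht : orderOf t = 2) (hs : orderOf s = 2) (H : HM I t C a) (K : HM I s D k) (c : Commute s t)
    (e : s ≠ t) : ∃ E l, HM I (t * s) E l ∧ I E a ∧ I E k := by
  obtain ⟨E, e1, e2⟩ := h.mt (h.axis_ne H K c e)
  rcases h.tri (two_mul_of_commute ht hs e.symm c.symm) with ⟨F, l, M⟩ | ⟨m, h1, h2, -⟩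
  · refine ⟨F, l, M, (H.pp.1 (h.hm_comm M ((Commute.refl t).mul_right c.symm)).1).resolve_right fun e' => ?_,
      (K.pp.1 (h.hm_comm M (c.mul_right (Commute.refl s))).1).resolve_right fun e' => ?_⟩
    · exact ne_one_of_two hs (mul_eq_left.1 (h.same H (e' ▸ M)))
    · exact ne_one_of_two ht (mul_eq_right.1 (h.same K (e' ▸ M)))
  have h3 := h2.cl a (by simpa using mul_fix (H.ll.2 (Or.inr rfl)) (h.hm_comm H c).2)
  have h4 := (card_le_card (s := {p ∈ fx univ (t * s) | I p a}) (t := {D, E}) fun p hp => by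
    simp only [mem_filter, mem_univ, true_and, mem_insert, mem_singleton] at hp ⊢
    exact (K.pp.1 (fix_of_mul' (H.pp.2 (Or.inl hp.2)) hp.1)).symm.imp id fun e' =>
      (h.uniq hp.2 e1 e' e2).resolve_right (h.axis_ne H K c e)).trans card_le_two
  have := h.two
  nlinarith

theorem h1 (ht : IsH I t) (hs : IsH I s) (e : t ≠ s) (c : Commute t s) : IsH I (t * s) :=
  let ⟨t2, _, _, H⟩ := ht; let ⟨s2, _, _, K⟩ := hs
  let ⟨E, l, M, _⟩ := h.prod t2 s2 H K c.symm e.symm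
  ⟨two_mul_of_commute t2 s2 e c, E, l, M⟩

theorem h2 (ht : IsH I t) (hs : IsH I s) (hu : IsH I u) (e : t ≠ s) (c : Commute t s) (c1 : Commute t u)
    (c2 : Commute s u) : u = t ∨ u = s ∨ u = t * s := by
  obtain ⟨t2, C, a, H⟩ := ht
  obtain ⟨s2, D, k, K⟩ := hs
  obtain ⟨-, F, m, N⟩ := hu
  obtain ⟨E, l, M, e1, e2⟩ := h.prod t2 s2 H K c.symm e.symm
  rcases H.pp.1 (h.hm_comm N c1).1 with f1 | rfl
  · rcases K.pp.1 (h.hm_comm N c2).1 with f2 | rfl
    · obtain rfl := (h.uniq f1 e1 f2 e2).resolve_right (h.axis_ne H K c.symm e.symm)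
      exact Or.inr (Or.inr (h.same M N))
    · exact Or.inr (Or.inl (h.same K N))
  · exact Or.inl (h.same H N)

theorem det (ht : IsH I t) (hs : IsH I s) (hp : p ∈ O) (hq : q ∈ O) (e : p ≠ q) (h1 : t • p = p) (h2 : t • q = q)
    (h3 : s • p = p) (h4 : s • q = q) : t = s := by
  obtain ⟨τ, t1, t2, -⟩ := h.tangent hp
  obtain ⟨σ, s1, s2, -⟩ := h.tangent hq
  have key : ∀ {t : G} {C a}, HM I t C a → t • p = p → t • q = q → I C τ ∧ I C σ := fun H h1 h2 =>
    ⟨(H.ll.1 (h.fix_tan hp h1 t1 t2)).resolve_right fun e' => e (t2 q hq (e' ▸ (h.hm_iff H hq).1 h2)).symm,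
      (H.ll.1 (h.fix_tan hq h2 s1 s2)).resolve_right fun e' => e (s2 p hp (e' ▸ (h.hm_iff H hp).1 h1))⟩
  obtain ⟨-, C, a, H⟩ := ht
  obtain ⟨-, D, k, K⟩ := hs
  obtain rfl := (h.uniq (key H h1 h2).1 (key K h3 h4).1 (key H h1 h2).2 (key K h3 h4).2).resolve_right
    fun e' => e (s2 p hp (e' ▸ t1))
  exact h.same K H

theorem baer (hb : orderOf b = 2) (H : ¬ IsH I b) :
    ∃ m, n = m ^ 2 ∧ Pl G I m (fx univ b) (fx univ b) ∧ #(fx O b) = m + 1 ∧ m % 4 = 1 ∧ 5 ≤ m ∧ n % 4 = 1 := by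
  obtain ⟨m, h1, h2, h3⟩ := (h.tri hb).resolve_left fun e => H ⟨hb, e⟩
  obtain ⟨k, hk⟩ := h.par b (mul_self_of_two hb)
  obtain ⟨j, rfl⟩ : Odd m := (Nat.odd_pow_iff two_ne_zero).1 (h1 ▸ h.odd)
  have e : n = 4 * (j ^ 2 + j) + 1 := by rw [h1]; ring
  have e1 : #(fx O b) = 2 * j + 1 + 1 := h3.resolve_left fun e' => by
    rw [e', card_empty] at hk; omega
  have : j ≠ 0 := by rintro rfl; have := h.two; omega
  exact ⟨_, h1, h2, e1, by omega, by omega, by omega⟩

/-- every four-group contains a homology -/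
theorem h3 (hb : orderOf b = 2) (hc : orderOf c = 2) (e : b ≠ c) (cm : Commute b c) :
    IsH I b ∨ IsH I c ∨ IsH I (b * c) := by
  by_contra! H
  have hd := two_mul_of_commute hb hc e cm
  obtain ⟨m, m1, m2, m3, m4, m5, -⟩ := h.baer hb H.1
  obtain ⟨m', m6, -, m7, -⟩ := h.baer hc H.2.1
  obtain rfl : m = m' := Nat.pow_left_injective two_ne_zero (m1.symm.trans m6)
  obtain ⟨m', m6, -, m8, -⟩ := h.baer hd H.2.2
  obtain rfl : m = m' := Nat.pow_left_injective two_ne_zero (m1.symm.trans m6)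
  have cc : Col c (fx (univ : Finset P) b) (fx (univ : Finset L) b) := ⟨mul_self_of_two hc,
    fun p hp => by simpa using fix_comm cm.symm (mem_filter.1 hp).2,
    fun p hp => by simpa using fix_comm cm.symm (mem_filter.1 hp).2⟩
  obtain ⟨X, hX, hx⟩ : ∃ X ∈ fx (univ : Finset P) b, c • X ≠ X := by
    by_contra! f
    simp only [mem_filter, mem_univ, true_and] at f
    have f1 : fx O b = fx O c := eq_of_subset_of_card_le (fun p hp => by
      simp only [mem_filter] at hp ⊢; exact ⟨hp.1, f p hp.2⟩) (by omega)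
    have f2 : fx O b = fx O (b * c) := eq_of_subset_of_card_le (fun p hp => by
      simp only [mem_filter] at hp ⊢; exact ⟨hp.1, mul_fix hp.2 (f p hp.2)⟩) (by omega)
    obtain ⟨X, hX, hx⟩ := exists_mem_notMem_of_card_lt_card (s := fx O b) (t := O) (by rw [h.card]; nlinarith)
    have x1 : b • X ≠ X := by simpa [hX] using hx
    have x2 : c • X ≠ X := by simpa [hX, f1] using hx
    have x3 : (b * c) • X ≠ X := by simpa [hX, f2] using hx
    obtain ⟨l, l1, l2⟩ := h.jn x1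
    have l3 := h.swapL (mul_self_of_two hb) x1 l2 l1
    obtain ⟨p, hp, q, hq, e, p1, q1⟩ := m2.exists_two (l := l) (by omega) (by simpa using l3)
    have l4 := h.fixL (f p (mem_filter.1 hp).2) (f q (mem_filter.1 hq).2) e p1 q1
    rcases h.arc hX (h.inv b X hX) (h.inv c X hX) l2 l1 (h.fix_inc l4 l2) with e | e | e
    exacts [x1 e.symm, x2 e.symm, x3 (by rw [mul_smul, ← e, smul_smul_self (mul_self_of_two hb)])]
  set Λ := fx (fx (univ : Finset L) b) c with hΛ
  set E := fx (fx O b) c with hE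
  set U := fx O b ∪ fx O c ∪ fx O (b * c) with hU
  have c1 : fx O b ∩ fx O c = E := by ext p; simp only [hE, mem_inter, mem_filter]; tauto
  have c2 : (fx O b ∪ fx O c) ∩ fx O (b * c) = E := by
    ext p; simp only [hE, mem_inter, mem_union, mem_filter]
    exact ⟨fun ⟨e1, e2, e3⟩ => e1.elim (fun e => ⟨e, fix_of_mul' e.2 e3⟩) fun e => ⟨⟨e2, fix_of_mul e.2 e3⟩, e.2⟩,
      fun e => ⟨Or.inl e.1, e.1.1, mul_fix e.1.2 e.2⟩⟩
  have c3 := card_union_add_card_inter (fx O b) (fx O c)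
  have c4 := card_union_add_card_inter (fx O b ∪ fx O c) (fx O (b * c))
  have c5 : E ⊆ U := c2 ▸ inter_subset_union
  have c6 := card_sdiff_add_card_eq_card c5
  rw [c1] at c3
  rw [c2, ← hU] at c4
  have s1 := sum_card_bipartiteAbove_eq_sum_card_bipartiteBelow I (s := U) (t := Λ)
  have s2 : ∑ l ∈ Λ, #(U.bipartiteBelow I l) ≤ #Λ * 2 := sum_le_card_nsmul _ _ _ fun l _ =>
    (card_le_card (filter_subset_filter _ (union_subset (union_subset (filter_subset _ _) (filter_subset _ _))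
      (filter_subset _ _)))).trans (h.le_two l)
  have s3 : ∑ p ∈ E, #(Λ.bipartiteAbove I p) = #E * #E := sum_const_nat fun p hp => by
    simp only [hE, mem_filter] at hp
    exact (h.cnt_tan hp.1.1 hp.1.2 hp.2).symm
  have s4 : #(U \ E) • 1 ≤ ∑ p ∈ U \ E, #(Λ.bipartiteAbove I p) := card_nsmul_le_sum _ _ _ fun p hp => by
    simp only [hE, hU, mem_filter, mem_sdiff, mem_union] at hp
    have key : ∀ {x y : G}, orderOf y = 2 → Commute x y → x • p = p → y • p ≠ p →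
        ∃ l, I p l ∧ x • l = l ∧ y • l = l := fun {x y} hy cm e1 e2 =>
      let ⟨l, l1, l2⟩ := h.jn e2
      ⟨l, l2, h.fixL (fix_comm cm.symm e1) e1 e2 l1 l2, h.swapL (mul_self_of_two hy) e2 l2 l1⟩
    refine card_pos.2 ?_
    simp only [hΛ, Finset.Nonempty, mem_bipartiteAbove, mem_filter, mem_univ, true_and]
    rcases hp.1 with (e1 | e1) | e1
    · obtain ⟨l, l1, l2, l3⟩ := key hc cm e1.2 fun e => hp.2 ⟨e1, e⟩
      exact ⟨l, ⟨l2, l3⟩, l1⟩
    · obtain ⟨l, l1, l2, l3⟩ := key hb cm.symm e1.2 fun e => hp.2 ⟨⟨e1.1, e⟩, e1.2⟩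
      exact ⟨l, ⟨l3, l2⟩, l1⟩
    · obtain ⟨l, l1, l2, l3⟩ := key hb ((Commute.refl b).mul_left cm.symm) e1.2
        fun e => hp.2 ⟨⟨e1.1, e⟩, fix_of_mul' e e1.2⟩
      exact ⟨l, ⟨l3, fix_of_mul' l3 l2⟩, l1⟩
  rw [← sum_sdiff c5, s3] at s1
  rw [smul_eq_mul] at s4
  have s5 := sq_aux #E
  rcases m2.trich cc (Nat.odd_iff.2 (by omega)) (by omega) hX hx with ⟨C, a, M⟩ | ⟨j, j1, -, j2⟩
  · have : #Λ = m + 2 := m2.hm_card M
    omega
  · replace j2 : #Λ = m + j + 1 := j2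
    exact sq_aux2 (j := j) (by omega) (by omega)

theorem fx_two (hn : n % 4 = 1) (ht : IsH I t) : #(fx O t) = 2 := by
  obtain ⟨k, hk⟩ := h.par t (mul_self_of_two ht.1)
  obtain ⟨-, C, a, H⟩ := ht
  have := h.hm_le H
  omega

theorem h4 (hn : n % 4 = 3) (ht : IsH I t) (hw : IsH I (w * w)) (c : Commute w t) : w * w = t := by
  by_contra e
  obtain ⟨t2, C, a, H⟩ := ht
  obtain ⟨s2, D, k, K⟩ := hw
  have c' := c.mul_left c
  obtain ⟨E, e1, e2⟩ := h.mt (h.axis_ne H K c' e)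
  have h1 := card_filter_add_card_filter_not (s := {p ∈ univ | I p a}) fun p => (w * w) • p = p
  have h2 := four_dvd s2 {p ∈ {p ∈ univ | I p a} | ¬ (w * w) • p = p} (fun p hp => by
    simp only [mem_filter, mem_univ, true_and] at hp ⊢
    exact ⟨h.fix_inc (h.hm_comm H c).2 hp.1, fun e => hp.2 (smul_left_cancel w (by
      rwa [smul_smul, ← mul_assoc, mul_smul] ))⟩) fun p hp => (mem_filter.1 hp).2
  rw [h.cl a (mem_univ _), show {p ∈ {p ∈ (univ : Finset P) | I p a} | (w * w) • p = p} = {D, E} from ?_,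
    card_pair fun e' : D = E => K.ni (e' ▸ e2)] at h1
  · omega
  ext p
  simp only [mem_filter, mem_univ, true_and, mem_insert, mem_singleton, K.pp]
  refine ⟨fun ⟨p1, p2⟩ => p2.symm.imp id fun p2 => (h.uniq p1 e1 p2 e2).resolve_right (h.axis_ne H K c' e), ?_⟩
  rintro (rfl | rfl)
  exacts [⟨h.cen_axis H K c' e, Or.inr rfl⟩, ⟨e1, Or.inl e2⟩]

theorem g2 (hz : IsH I z) (ht : IsH I t) (hs : IsH I s) (hu : IsH I u) (c1 : Commute t z) (c2 : Commute s z)
    (hp : (orderOf (t * s)).Prime) (h2 : orderOf (t * s) ≠ 2) (c3 : Commute (t * s) u) : u = z := by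
  have r3 : 3 ≤ orderOf (t * s) := by have := hp.two_le; omega
  have ts : ¬ Commute t s := fun c => by
    have := Nat.le_of_dvd two_pos (orderOf_dvd_of_pow_eq_one (x := t * s) (n := 2) (by
      rw [c.mul_pow, sq_of_two ht.1, sq_of_two hs.1, one_mul]))
    omega
  have tz : t ≠ z := fun e => ts (e ▸ c2.symm)
  have sz : s ≠ z := fun e => ts (e ▸ c1)
  have ts' : t ≠ s := fun e => ts (e ▸ Commute.refl t)
  obtain ⟨z2, Z, l, M⟩ := id hz
  obtain ⟨t2, C, a, H⟩ := ht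
  obtain ⟨s2, D, k, K⟩ := hs
  have key : ∀ X, (t * s) • X = X → I X l ∨ X = Z := fun X hX => by
    by_contra! e
    have e1 : s • X = t • X := smul_left_cancel t (by rw [smul_smul, hX, smul_smul_self (mul_self_of_two t2)])
    have z1 := h.cen_axis M H c1 tz
    have z2 := h.cen_axis M K c2 sz
    by_cases e2 : t • X = X
    · have x1 := (H.pp.1 e2).resolve_right fun e' => e.1 (e' ▸ z1)
      have x2 := (K.pp.1 (e1.trans e2)).resolve_right fun e' => e.1 (e' ▸ z2)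
      obtain rfl := (h.uniq x1 (h.cen_axis H M c1.symm tz.symm) x2 (h.cen_axis K M c2.symm sz.symm)).resolve_left e.2
      obtain ⟨E, _, N, n1, n2⟩ := h.prod t2 hz.1 H M c1.symm tz.symm
      obtain ⟨F, _, N', n3, n4⟩ := h.prod s2 hz.1 K M c2.symm sz.symm
      obtain rfl := (h.uniq n1 n3 n2 n4).resolve_right (h.axis_ne H M c1.symm tz.symm)
      exact ts' (mul_right_cancel (h.same N' N))
    obtain ⟨j, j1, j2⟩ := h.jn e2
    have x1 := (H.ll.1 (h.swapL (mul_self_of_two t2) e2 j2 j1)).resolve_right fun e' => e2 (H.pp.2 (Or.inl (e' ▸ j2)))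
    have x2 := (K.ll.1 (h.swapL (mul_self_of_two s2) (e1 ▸ e2) j2 (e1 ▸ j1))).resolve_right
      fun e' => e2 (e1 ▸ K.pp.2 (Or.inl (e' ▸ j2)))
    rcases h.uniq x1 x2 z1 z2 with rfl | rfl
    exacts [ts' (h.same K H), e.1 j2]
  have key' : ∀ X ∈ O, (t * s) • X = X → z • X = X := fun X _ hX => M.pp.2 (key X hX)
  obtain ⟨i, hi⟩ := h.par z (mul_self_of_two z2)
  obtain ⟨j, hj⟩ := h.par u (mul_self_of_two hu.1)
  obtain ⟨u2, U, v, N⟩ := id hu
  have f1 := h.hm_le M
  have f2 := h.hm_le N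
  obtain ⟨n', hn⟩ := h.odd
  by_cases f3 : #(fx O u) = 2
  · obtain ⟨j, hj⟩ := dvd_of_prime hp (fx O u) fun p hp =>
      mem_filter.2 ⟨h.inv _ _ (mem_filter.1 hp).1, fix_comm c3 (mem_filter.1 hp).2⟩
    obtain rfl : j = 0 := by by_contra e; nlinarith [Nat.pos_of_ne_zero e]
    obtain ⟨p, hp, q, hq, e⟩ := one_lt_card.1 (show 1 < #{x ∈ fx O u | (t * s) • x = x} by omega)
    simp only [mem_filter] at hp hq
    exact h.det hu hz hp.1.1 hq.1.1 e hp.1.2 hq.1.2 (key' p hp.1.1 hp.2) (key' q hq.1.1 hq.2)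
  by_contra e
  have f4 : #{x ∈ O | (t * s) • x = x} ≤ #(fx O z) := card_le_card fun p hp =>
    mem_filter.2 ⟨(mem_filter.1 hp).1, key' p (mem_filter.1 hp).1 (mem_filter.1 hp).2⟩
  obtain ⟨i', hi'⟩ := dvd_of_prime hp O (h.inv _)
  have y1 := h.hm_comm N c3
  have y2 := h.hm_comm M (c1.mul_left c2)
  have vl : v ≠ l := fun e' => N.ni (e' ▸ (key U y1.1).resolve_right fun e' => e (h.same M (e' ▸ N)))
  obtain ⟨E, e1, e2⟩ := h.mt vl
  obtain ⟨j', hj'⟩ := dvd_of_prime hp {p ∈ univ | I p v} fun p hp => by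
    simpa using h.fix_inc y1.2 (mem_filter.1 hp).2
  have f5 := card_pos.2 ⟨E, (by simp [e1, h.fixP y1.2 y2.2 vl e1 e2] :
    E ∈ {x ∈ {p ∈ (univ : Finset P) | I p v} | (t * s) • x = x})⟩
  have f6 := (card_le_card (s := {x ∈ {p ∈ univ | I p v} | (t * s) • x = x}) (t := {Z, E}) fun p hp => by
    simp only [mem_filter, mem_univ, true_and, mem_insert, mem_singleton] at hp ⊢
    exact (key p hp.2).symm.imp id fun e' => (h.uniq hp.1 e1 e' e2).resolve_right vl).trans card_le_two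
  rw [h.cl v (mem_univ _)] at hj'
  rw [h.card] at hi'
  have := Nat.le_of_dvd f5 ((Nat.dvd_add_left (Dvd.intro j' rfl)).1 (hj' ▸ ⟨i', by omega⟩ :
    orderOf (t * s) ∣ _))
  omega

end Ow

end Cfsg.Lib.Oval
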