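import Mathlib

/-! Involutory collineations of finite projective planes of odd order (relative to a subplane). -/

set_option autoImplicit false
set_option linter.unusedSectionVars false
set_option linter.style.haveILetI false

namespace Cfsg.Lib.Oval

open Finset
open scoped Classical

theorem card_eq_of_rel {α β : Type*} {s : Finset α} {t : Finset β} (r : α → β → Prop)
    (h1 : ∀ a ∈ s, ∃ b ∈ t, r a b) (h2 : ∀ b ∈ t, ∃ a ∈ s, r a b)
    (h3 : ∀ a ∈ s, ∀ b ∈ t, ∀ c ∈ t, r a b → r a c → b = c)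
    (h4 : ∀ b ∈ t, ∀ a ∈ s, ∀ c ∈ s, r a b → r c b → a = c) : #s = #t :=
  (card_le_card_of_forall_subsingleton r h1 fun b hb a ha c hc => h4 b hb a ha.1 c hc.1 ha.2 hc.2).antisymm
    (card_le_card_of_forall_subsingleton (fun b a => r a b) h2
      fun a ha b hb c hc => h3 a ha b hb.1 c hc.1 hb.2 hc.2)

theorem card_dvd_of_free {G X : Type*} [Group G] [MulAction G X] (K : Subgroup G) (s : Finset X)
    (hS : ∀ k ∈ K, ∀ x ∈ s, k • x ∈ s) (hf : ∀ k ∈ K, ∀ x ∈ s, k • x = x → k = 1) : Nat.card K ∣ #s := by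
  letI : MulAction K {x // x ∈ s} :=
    { smul := fun x y => ⟨(x : G) • y.1, hS x x.2 y y.2⟩
      one_smul := fun y => Subtype.ext (one_smul G y.1)
      mul_smul := fun x y z => Subtype.ext (mul_smul (x : G) y z.1) }
  have : ∀ x : {x // x ∈ s}, MulAction.stabilizer K x = ⊥ := fun x =>
    (Subgroup.eq_bot_iff_forall _).2 fun g hg => Subtype.ext (hf g g.2 x x.2 (congrArg Subtype.val hg))
  rw [← Nat.card_eq_finsetCard s, Nat.card_congr (MulAction.selfEquivOrbitsQuotientProd this), Nat.card_prod]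
  exact Dvd.intro_left _ rfl

theorem pow_smul_mem {G X : Type*} [Group G] [MulAction G X] {y : G} {s : Finset X}
    (hS : ∀ x ∈ s, y • x ∈ s) (k : ℕ) : ∀ x ∈ s, y ^ k • x ∈ s := fun x hx => by
  induction k with
  | zero => simpa using hx
  | succ k ih => rw [pow_succ', mul_smul]; exact hS _ ih

/-- fixed points of an element of prime order -/
theorem dvd_of_prime {G X : Type*} [Group G] [Finite G] [MulAction G X] {y : G} (hy : (orderOf y).Prime)
    (s : Finset X) (hS : ∀ x ∈ s, y • x ∈ s) : ∃ k, #s = #{x ∈ s | y • x = x} + orderOf y * k := by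
  obtain ⟨k, hk⟩ := card_dvd_of_free (Subgroup.zpowers y) {x ∈ s | ¬ y • x = x} (fun g hg x hx => by
    obtain ⟨j, rfl⟩ := mem_powers_iff_mem_zpowers.2 hg
    refine pow_smul_mem (fun x hx => ?_) j x hx
    simp only [mem_filter, smul_left_cancel_iff] at hx ⊢
    exact ⟨hS x hx.1, hx.2⟩) fun g hg x hx e => by
      by_contra h
      have h1 : Subgroup.zpowers g = Subgroup.zpowers y := Subgroup.eq_of_le_of_card_ge
        (Subgroup.zpowers_le_of_mem hg) (by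
          rw [Nat.card_zpowers, Nat.card_zpowers, (hy.eq_one_or_self_of_dvd _
            (orderOf_dvd_of_mem_zpowers hg)).resolve_left (by simpa using h)])
      have : y ∈ MulAction.stabilizer G x :=
        (Subgroup.zpowers_le_of_mem (H := MulAction.stabilizer G x) e) (h1 ▸ Subgroup.mem_zpowers y)
      exact (mem_filter.1 hx).2 this
  exact ⟨k, by rw [← card_filter_add_card_filter_not (s := s) (fun x => y • x = x), hk, Nat.card_zpowers]⟩

/-- an element of order four whose square moves all points -/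
theorem four_dvd {G X : Type*} [Group G] [Finite G] [MulAction G X] {w : G} (hw : orderOf (w * w) = 2)
    (s : Finset X) (hS : ∀ x ∈ s, w • x ∈ s) (hf : ∀ x ∈ s, (w * w) • x ≠ x) : 4 ∣ #s := by
  have h4 : w ^ 4 = 1 := by rw [← pow_orderOf_eq_one (w * w), hw, ← sq, ← pow_mul]
  have h2 : ¬ w ^ 2 = 1 := fun e => by simp [← sq, e] at hw
  have ho : orderOf w = 4 := orderOf_eq_prime_pow (p := 2) (n := 1) h2 h4
  rw [← ho, ← Nat.card_zpowers]
  refine card_dvd_of_free _ s (fun g hg x hx => ?_) fun g hg x hx e => ?_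
  · obtain ⟨j, rfl⟩ := mem_powers_iff_mem_zpowers.2 hg
    exact pow_smul_mem hS j x hx
  · obtain ⟨j, rfl⟩ := mem_powers_iff_mem_zpowers.2 hg
    have e1 : w ^ j = w ^ (j % 4) := by rw [← ho, pow_mod_orderOf]
    have e2 : (w ^ j * w ^ j) • x = x := by rw [mul_smul, e, e]
    dsimp only at e ⊢
    rw [e1] at e e2 ⊢
    have : j % 4 < 4 := Nat.mod_lt _ (by omega)
    interval_cases j % 4
    · simp
    · exact (hf x hx (by simpa using e2)).elim
    · exact (hf x hx (by rwa [← sq])).elim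
    · exact (hf x hx (by rwa [← pow_add, show 3 + 3 = 4 + 2 from rfl, pow_add, h4, one_mul, sq] at e2)).elim

variable {G P L : Type*} [Group G] [MulAction G P] [MulAction G L]

/-- A subplane `(A, B)` of order `n` of an incidence structure on which `G` acts. -/
structure Pl (G : Type*) {P L : Type*} [Group G] [MulAction G P] [MulAction G L] (I : P → L → Prop) (n : ℕ)
    (A : Finset P) (B : Finset L) : Prop where
  inc : ∀ (g : G) p l, I (g • p) (g • l) ↔ I p l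
  uniq : ∀ {p q l m}, I p l → I q l → I p m → I q m → p = q ∨ l = m
  join : ∀ p ∈ A, ∀ q ∈ A, p ≠ q → ∃ l ∈ B, I p l ∧ I q l
  meet : ∀ l ∈ B, ∀ m ∈ B, l ≠ m → ∃ p ∈ A, I p l ∧ I p m
  cl : ∀ l ∈ B, #{p ∈ A | I p l} = n + 1
  cp : ∀ p ∈ A, #{l ∈ B | I p l} = n + 1

/-- an involution stabilising the subplane -/
structure Col (t : G) (A : Finset P) (B : Finset L) : Prop where
  sq : t * t = 1
  mA : ∀ p ∈ A, t • p ∈ A
  mB : ∀ l ∈ B, t • l ∈ B

/-- a homology with centre `C` and axis `a` -/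
structure Hm (I : P → L → Prop) (t : G) (A : Finset P) (B : Finset L) (C : P) (a : L) : Prop where
  cA : C ∈ A
  aB : a ∈ B
  ni : ¬ I C a
  fp : ∀ p ∈ A, t • p = p ↔ I p a ∨ p = C
  fl : ∀ l ∈ B, t • l = l ↔ I C l ∨ l = a

variable {I : P → L → Prop} {n : ℕ} {A : Finset P} {B : Finset L} {t g : G} {p q X Y C : P} {l m a : L}

theorem Col.dual (h : Col t A B) : Col t B A := ⟨h.sq, h.mB, h.mA⟩

theorem Hm.dual (h : Hm I t A B C a) : Hm (fun l p => I p l) t B A a C := ⟨h.aB, h.cA, h.ni, h.fl, h.fp⟩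

theorem smul_smul_self {X : Type*} [MulAction G X] (h : t * t = 1) (x : X) : t • t • x = x := by
  rw [smul_smul, h, one_smul]

namespace Pl

variable (h : Pl G I n A B)
include h

theorem dual : Pl G (fun l p => I p l) n B A :=
  ⟨fun g l p => h.inc g p l, fun a b c d => (h.uniq a c b d).symm, h.meet, h.join, h.cp, h.cl⟩

theorem inc_fix (hp : g • p = p) (hl : I p l) : I p (g • l) := hp ▸ (h.inc g p l).2 hl

theorem fix_inc (hp : g • l = l) (hl : I p l) : I (g • p) l := hp ▸ (h.inc g p l).2 hl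

theorem fixL (hp : g • p = p) (hq : g • q = q) (hn : p ≠ q) (h1 : I p l) (h2 : I q l) : g • l = l :=
  (h.uniq (h.inc_fix hp h1) (h.inc_fix hq h2) h1 h2).resolve_left hn

theorem fixP (hl : g • l = l) (hm : g • m = m) (hn : l ≠ m) (h1 : I p l) (h2 : I p m) : g • p = p :=
  h.dual.fixL hl hm hn h1 h2

theorem swapL (ht : t * t = 1) (hn : t • p ≠ p) (h1 : I p l) (h2 : I (t • p) l) : t • l = l :=
  (h.uniq ((h.inc t p l).2 h1) (smul_smul_self ht p ▸ (h.inc t _ l).2 h2) h2 h1).resolve_left hn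

theorem exists_two (hn : 1 ≤ n) (hl : l ∈ B) : ∃ p ∈ A, ∃ q ∈ A, p ≠ q ∧ I p l ∧ I q l := by
  obtain ⟨p, hp, q, hq, e⟩ := one_lt_card.1 (show 1 < #{p ∈ A | I p l} by rw [h.cl l hl]; omega)
  exact ⟨p, (mem_filter.1 hp).1, q, (mem_filter.1 hq).1, e, (mem_filter.1 hp).2, (mem_filter.1 hq).2⟩

theorem exists_ne (hn : 2 ≤ n) (hl : l ∈ B) (X Y : P) : ∃ p ∈ A, I p l ∧ p ≠ X ∧ p ≠ Y := by
  obtain ⟨p, hp, hq⟩ := exists_mem_notMem_of_card_lt_card (s := {X, Y}) (t := {p ∈ A | I p l})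
    (card_le_two.trans_lt (by rw [h.cl l hl]; omega))
  simp only [mem_filter, mem_insert, mem_singleton, not_or] at hp hq
  exact ⟨p, hp.1, hp.2, hq⟩

theorem card_pts (hX : X ∈ A) : #A = n ^ 2 + n + 1 := by
  have := card_mul_eq_card_mul I (s := A.erase X) (t := {l ∈ B | I X l}) (m := 1) (n := n) (fun p hp => by
    obtain ⟨l, hl, h1, h2⟩ := h.join p (mem_of_mem_erase hp) X hX (ne_of_mem_erase hp)
    refine card_eq_one.2 ⟨l, eq_singleton_iff_unique_mem.2 ⟨by simp [hl, h1, h2], fun m hm => ?_⟩⟩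
    simp only [mem_bipartiteAbove, mem_filter] at hm
    exact (h.uniq hm.2 hm.1.2 h1 h2).resolve_left (ne_of_mem_erase hp)) fun l hl => by
      rw [bipartiteBelow, filter_erase, card_erase_of_mem (by simp [hX, (mem_filter.1 hl).2]),
        h.cl l (mem_filter.1 hl).1, Nat.add_sub_cancel]
  rw [card_erase_of_mem hX, h.cp X hX] at this
  have := card_pos.2 ⟨X, hX⟩
  zify [this] at *
  linarith

variable (c : Col t A B)
include c

theorem exists_fixL (hX : X ∈ A) (hn : t • X ≠ X) : ∃ l ∈ B, t • l = l ∧ I X l := by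
  obtain ⟨l, hl, h1, h2⟩ := h.join X hX _ (c.mA X hX) hn.symm
  exact ⟨l, hl, h.swapL c.sq hn h1 h2, h1⟩

theorem cnt (hX : X ∈ A) (hn : t • X ≠ X) (hl : l ∈ B) (h1 : t • l = l) (h2 : I X l) :
    #{p ∈ A | t • p = p} = n + #{p ∈ {p ∈ A | t • p = p} | I p l} := by
  rw [← card_filter_add_card_filter_not (s := {p ∈ A | t • p = p}) (I · l), add_comm]
  congr 1
  have : #({m ∈ B | I X m}.erase l) = n := by
    rw [card_erase_of_mem (by simp [hl, h2]), h.cp X hX, Nat.add_sub_cancel]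
  rw [← this]
  refine card_eq_of_rel I (fun p hp => ?_) (fun m hm => ?_) (fun p hp m hm k hk a b => ?_)
    fun m hm p hp q hq a b => ?_ <;> simp only [mem_filter, mem_erase] at *
  · obtain ⟨m, hm, h3, h4⟩ := h.join p hp.1.1 X hX (fun e => hn (e ▸ hp.1.2))
    exact ⟨m, ⟨fun e => hp.2 (e ▸ h3), hm, h4⟩, h3⟩
  · obtain ⟨p, hp, h3, h4⟩ := h.dual.exists_fixL c.dual hm.2.1 fun e => hn (h.fixP e h1 hm.1 hm.2.2 h2)
    exact ⟨p, ⟨⟨hp, h3⟩, fun e => hn ((h.uniq h4 hm.2.2 e h2).resolve_right hm.1 ▸ h3)⟩, h4⟩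
  · exact (h.uniq a hm.2.2 b hk.2.2).resolve_left fun e => hn (e ▸ hp.1.2)
  · by_contra e
    exact hn (h.fixP (h.fixL hp.1.2 hq.1.2 e a b) h1 hm.1 hm.2.2 h2)

omit c in
/-- projection from a fixed point onto a fixed line -/
theorem proj (hY : Y ∈ A) (hl : l ∈ B) (h1 : g • Y = Y) (h2 : g • l = l) (h3 : ¬ I Y l) :
    #{p ∈ {p ∈ A | g • p = p} | I p l} = #{m ∈ {m ∈ B | g • m = m} | I Y m} := by
  refine card_eq_of_rel I (fun p hp => ?_) (fun m hm => ?_) (fun p hp m hm k hk a b => ?_)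
    fun m hm p hp q hq a b => ?_ <;> simp only [mem_filter] at *
  · have e : p ≠ Y := fun e => h3 (e ▸ hp.2)
    obtain ⟨m, hm, h4, h5⟩ := h.join p hp.1.1 Y hY e
    exact ⟨m, ⟨⟨hm, h.fixL hp.1.2 h1 e h4 h5⟩, h5⟩, h4⟩
  · have e : m ≠ l := fun e => h3 (e ▸ hm.2)
    obtain ⟨p, hp, h4, h5⟩ := h.meet m hm.1.1 l hl e
    exact ⟨p, ⟨⟨hp, h.fixP hm.1.2 h2 e h4 h5⟩, h5⟩, h4⟩
  · exact (h.uniq a hm.2 b hk.2).resolve_left fun e => h3 (e ▸ hp.2)
  · exact (h.uniq a b hp.2 hq.2).resolve_right fun e => h3 (e ▸ hm.2)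

omit c in
theorem centre (ha : a ∈ B) (h1 : ∀ p ∈ A, I p a → g • p = p) (h2 : g • C = C) (h3 : ¬ I C a)
    (hl : l ∈ B) (h4 : I C l) : g • l = l := by
  obtain ⟨p, hp, h5, h6⟩ := h.meet l hl a ha fun e => h3 (e ▸ h4)
  exact h.fixL (h1 p hp h6) h2 (fun e => h3 (e ▸ h6)) h5 h4

variable [Finite G]

theorem hm_of_axis (hn : Odd n) (h2 : 2 ≤ n) (hX : X ∈ A) (hx : t • X ≠ X) (ha : a ∈ B)
    (h1 : ∀ p ∈ A, I p a → t • p = p) : ∃ C, Hm I t A B C a := by
  have fa : t • a = a := by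
    obtain ⟨p, hp, q, hq, e, h3, h4⟩ := h.exists_two (by omega) ha
    exact h.fixL (h1 p hp h3) (h1 q hq h4) e h3 h4
  obtain ⟨l, hl, fl, xl⟩ := h.exists_fixL c hX hx
  have la : l ≠ a := fun e => hx (h1 X hX (e ▸ xl))
  obtain ⟨E, hE, el, ea⟩ := h.meet l hl a ha la
  have ot : orderOf t = 2 := orderOf_eq_prime (by rw [sq, c.sq]) fun e => hx (by simp [e])
  obtain ⟨k, hk⟩ := dvd_of_prime (y := t) (ot ▸ Nat.prime_two) {p ∈ A | I p l} fun p hp => by
    simp only [mem_filter] at hp ⊢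
    exact ⟨c.mA p hp.1, h.fix_inc fl hp.2⟩
  rw [h.cl l hl, ot] at hk
  obtain ⟨C, hC, ce⟩ := exists_mem_ne (s := {p ∈ {p ∈ A | I p l} | t • p = p}) (by
    have := card_pos.2 ⟨E, (by simp [hE, el, h1 E hE ea] : E ∈ {p ∈ {p ∈ A | I p l} | t • p = p})⟩
    obtain ⟨j, hj⟩ := hn
    omega) E
  simp only [mem_filter] at hC
  have ca : ¬ I C a := fun e => la ((h.uniq hC.1.2 el e ea).resolve_left ce)
  have key : ∀ p ∈ A, t • p = p → I p a ∨ p = C := fun Z hZ fz => by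
    by_contra! e
    obtain ⟨k, hk, k1, k2⟩ := h.join Z hZ C hC.1.1 e.2
    have off : ∀ p ∈ A, ¬ I p k → t • p = p := fun p hp pk => by
      obtain ⟨m, hm, m1, m2⟩ := h.join p hp Z hZ fun e => pk (e ▸ k1)
      obtain ⟨m', hm', m3, m4⟩ := h.join p hp C hC.1.1 fun e => pk (e ▸ k2)
      exact h.fixP (h.centre ha h1 fz e.1 hm m2) (h.centre ha h1 hC.2 ca hm' m4)
        (fun e' => pk ((h.uniq k1 k2 m2 (e' ▸ m4)).resolve_left e.2 ▸ m1)) m1 m3
    have xk : I X k := by_contra fun e => hx (off X hX e)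
    obtain ⟨m, hm, m1, m2, -⟩ := h.dual.exists_ne h2 hX k k
    obtain ⟨p, hp, p1, p2, -⟩ := h.exists_ne h2 hm X X
    obtain ⟨q, hq, q1, q2, q3⟩ := h.exists_ne h2 hm X p
    exact hx (h.fixP (h.fixL (off p hp fun e => m2 ((h.uniq p1 m1 e xk).resolve_left p2))
      (off q hq fun e => m2 ((h.uniq q1 m1 e xk).resolve_left q2)) q3.symm p1 q1)
      (h.centre ha h1 hC.2 ca hk k2) m2 m1 xk)
  refine ⟨C, hC.1.1, ha, ca, fun p hp => ⟨key p hp, ?_⟩, fun m hm => ⟨fun fm => ?_, ?_⟩⟩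
  · rintro (e | rfl)
    exacts [h1 p hp e, hC.2]
  · by_contra! e
    obtain ⟨F, hF, f1, f2⟩ := h.meet m hm a ha e.2
    obtain ⟨p, hp, p1, p2, -⟩ := h.exists_ne h2 hm F F
    obtain ⟨k, hk, k1, k2⟩ := h.join p hp C hC.1.1 fun e' => e.1 (e' ▸ p1)
    rcases key p hp (h.fixP fm (h.centre ha h1 hC.2 ca hk k2) (fun e' => e.1 (e' ▸ k2)) p1 k1) with e' | rfl
    exacts [e.2 ((h.uniq p1 f1 e' f2).resolve_left p2), e.1 p1]
  · rintro (e | rfl)
    exacts [h.centre ha h1 hC.2 ca hm e, fa]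

/-- Baer's dichotomy for involutions in odd order -/
theorem trich (hn : Odd n) (h2 : 2 ≤ n) (hX : X ∈ A) (hx : t • X ≠ X) : (∃ C a, Hm I t A B C a) ∨
    ∃ m, n = m ^ 2 ∧ Pl G I m {p ∈ A | t • p = p} {l ∈ B | t • l = l} ∧ #{l ∈ B | t • l = l} = n + m + 1 := by
  by_cases h3 : ∃ a ∈ B, ∀ p ∈ A, I p a → t • p = p
  · obtain ⟨a, ha, h3⟩ := h3
    exact Or.inl ((h.hm_of_axis c hn h2 hX hx ha h3).imp fun C hC => ⟨a, hC⟩)
  obtain ⟨k, hk, fk, xk⟩ := h.exists_fixL c hX hx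
  obtain ⟨k', hk', xk', kk, -⟩ := h.dual.exists_ne h2 hX k k
  have nk : t • k' ≠ k' := fun e => hx (h.fixP e fk kk xk' xk)
  by_cases h4 : ∃ C ∈ A, ∀ l ∈ B, I C l → t • l = l
  · obtain ⟨C, hC, h4⟩ := h4
    obtain ⟨a, ha⟩ := h.dual.hm_of_axis c.dual hn h2 hk' nk hC h4
    exact Or.inl ⟨C, a, ha.dual⟩
  push Not at h3 h4
  have c1 : ∀ l ∈ B, t • l = l → #{p ∈ A | t • p = p} = n + #{p ∈ {p ∈ A | t • p = p} | I p l} := fun l hl fl => by
    obtain ⟨p, hp, p1, p2⟩ := h3 l hl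
    exact h.cnt c hp p2 hl fl p1
  have c2 : ∀ p ∈ A, t • p = p → #{l ∈ B | t • l = l} = n + #{l ∈ {l ∈ B | t • l = l} | I p l} := fun p hp fp => by
    obtain ⟨l, hl, p1, p2⟩ := h4 p hp
    exact h.dual.cnt c.dual hl p2 hp fp p1
  obtain ⟨Y, hY, yk⟩ := exists_mem_notMem_of_card_lt_card (s := {p ∈ {p ∈ A | t • p = p} | I p k})
    (t := {p ∈ A | t • p = p}) (by rw [c1 k hk fk]; omega)
  have yk' : ¬ I Y k := fun e => yk (mem_filter.2 ⟨hY, e⟩)
  have hY' := mem_filter.1 hY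
  have e1 := h.proj hY'.1 hk hY'.2 fk yk'
  have e2 := c1 k hk fk
  have e3 := c2 Y hY'.1 hY'.2
  obtain ⟨m, hm⟩ : ∃ m, #{p ∈ {p ∈ A | t • p = p} | I p k} = m + 1 := by
    obtain ⟨l, hl, h5⟩ := exists_mem_ne (s := {l ∈ B | t • l = l}) (by omega) k
    obtain ⟨p, hp, h6, h7⟩ := h.meet l (mem_filter.1 hl).1 k hk h5
    exact Nat.exists_eq_add_one.2 (card_pos.2 ⟨p, by simp [hp, h7, h.fixP (mem_filter.1 hl).2 fk h5 h6 h7]⟩)
  have pl : Pl G I m {p ∈ A | t • p = p} {l ∈ B | t • l = l} := by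
    refine ⟨h.inc, h.uniq, fun p hp q hq e => ?_, fun l hl m hm e => ?_, fun l hl => ?_, fun p hp => ?_⟩ <;>
      simp only [mem_filter] at *
    · obtain ⟨l, hl, h5, h6⟩ := h.join p hp.1 q hq.1 e
      exact ⟨l, ⟨hl, h.fixL hp.2 hq.2 e h5 h6⟩, h5, h6⟩
    · obtain ⟨p, hp, h5, h6⟩ := h.meet l hl.1 m hm.1 e
      exact ⟨p, ⟨hp, h.fixP hl.2 hm.2 e h5 h6⟩, h5, h6⟩
    · have := c1 l hl.1 hl.2
      omega
    · have := c2 p hp.1 hp.2
      omega
  have := pl.card_pts hY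
  exact Or.inr ⟨m, by omega, pl, by omega⟩

omit c in
theorem hm_card (H : Hm I t A B C a) : #{l ∈ B | t • l = l} = n + 2 := by
  rw [show {l ∈ B | t • l = l} = insert a {l ∈ B | I C l} from ?_, card_insert_of_notMem (by simp [H.ni]),
    h.cp C H.cA]
  ext l
  simp only [mem_filter, mem_insert]
  exact ⟨fun e => ((H.fl l e.1).1 e.2).symm.imp id fun e' => ⟨e.1, e'⟩, fun e => e.elim
    (fun e => ⟨e ▸ H.aB, (H.fl l (e ▸ H.aB)).2 (Or.inr e)⟩) fun e => ⟨e.1, (H.fl l e.1).2 (Or.inl e.2)⟩⟩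

end Pl

end Cfsg.Lib.Oval
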